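import Mathlib
import Cfsg.Agent.Helper2.Aut.SL2

/-!
# Rank one computations through an abstract homomorphism `SL₂(F) → G`
-/

set_option autoImplicit false
set_option linter.unusedSectionVars false
set_option linter.unusedSimpArgs false
set_option linter.unusedVariables false

namespace Cfsg.Agent.Helper2.TwAut

open Cfsg.Agent.Helper2.Aut

variable {F : Type*} [Field F] {G : Type*} [Group G]

/-- the diagonal matrix `diag(s, s⁻¹)` -/
def dM (s : F) (hs : s ≠ 0) : Matrix.SpecialLinearGroup (Fin 2) F :=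
  ⟨!![s, 0; 0, s⁻¹], by simp [Matrix.det_fin_two, hs]⟩

theorem dM_val (s : F) (hs : s ≠ 0) : (dM s hs).1 = !![s, 0; 0, s⁻¹] := rfl

/-- the monomial matrix `u(t) l(-t⁻¹) u(t)` -/
def wM (t : F) : Matrix.SpecialLinearGroup (Fin 2) F := uM t * lM (-t⁻¹) * uM t

theorem uM_add (a b : F) : uM a * uM b = uM (a + b) := by
  apply sl2_ext <;> simp [uM_val, Matrix.SpecialLinearGroup.coe_mul, Matrix.mul_apply,
    Fin.sum_univ_two, add_comm]

theorem lM_add (a b : F) : lM a * lM b = lM (a + b) := by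
  apply sl2_ext <;> simp [lM_val, Matrix.SpecialLinearGroup.coe_mul, Matrix.mul_apply,
    Fin.sum_univ_two, add_comm]

theorem uM_zero : uM (0 : F) = 1 := by
  apply sl2_ext <;> simp [uM_val]

theorem lM_zero : lM (0 : F) = 1 := by
  apply sl2_ext <;> simp [lM_val]

theorem dM_eq {s : F} (hs : s ≠ 0) : dM s hs = wM s * (wM 1)⁻¹ := by
  rw [eq_mul_inv_iff_mul_eq]
  apply sl2_ext <;> simp [wM, dM_val, uM_val, lM_val, Matrix.SpecialLinearGroup.coe_mul,
    Matrix.mul_apply, Fin.sum_univ_two] <;> (try field_simp) <;> (try ring_nf) <;> (try simp)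

theorem dM_conj_uM {s : F} (hs : s ≠ 0) (u : F) :
    dM s hs * uM u * (dM s hs)⁻¹ = uM (s ^ 2 * u) := by
  rw [mul_inv_eq_iff_eq_mul]
  apply sl2_ext <;> simp [dM_val, uM_val, Matrix.SpecialLinearGroup.coe_mul,
    Matrix.mul_apply, Fin.sum_univ_two] <;> (try field_simp)

theorem dM_conj_lM {s : F} (hs : s ≠ 0) (u : F) :
    dM s hs * lM u * (dM s hs)⁻¹ = lM ((s⁻¹) ^ 2 * u) := by
  rw [mul_inv_eq_iff_eq_mul]
  apply sl2_ext <;> simp [dM_val, lM_val, Matrix.SpecialLinearGroup.coe_mul,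
    Matrix.mul_apply, Fin.sum_univ_two] <;> (try field_simp)

theorem wM_conj_uM {t : F} (ht : t ≠ 0) (u : F) :
    wM t * uM u * (wM t)⁻¹ = lM (-(t⁻¹) ^ 2 * u) := by
  rw [mul_inv_eq_iff_eq_mul]
  apply sl2_ext <;> simp [wM, uM_val, lM_val, Matrix.SpecialLinearGroup.coe_mul, Matrix.SpecialLinearGroup.coe_one, Matrix.mul_apply, Fin.sum_univ_two] <;> (try field_simp) <;> (try ring_nf) <;> (try simp)

theorem wM_conj_lM {t : F} (ht : t ≠ 0) (u : F) :
    wM t * lM u * (wM t)⁻¹ = uM (-t ^ 2 * u) := by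
  rw [mul_inv_eq_iff_eq_mul]
  apply sl2_ext <;> simp [wM, uM_val, lM_val, Matrix.SpecialLinearGroup.coe_mul, Matrix.SpecialLinearGroup.coe_one, Matrix.mul_apply, Fin.sum_univ_two] <;> (try field_simp) <;> (try ring_nf) <;> (try simp)

/-- `l(t⁻¹) = u(t) d(-t) w(1) u(t)` -/
theorem lM_inv_eq {t : F} (ht : t ≠ 0) :
    lM t⁻¹ = uM t * dM (-t) (neg_ne_zero.2 ht) * wM 1 * uM t := by
  apply sl2_ext <;> simp [wM, dM_val, uM_val, lM_val, Matrix.SpecialLinearGroup.coe_mul, Matrix.SpecialLinearGroup.coe_one, Matrix.mul_apply, Fin.sum_univ_two] <;> (try field_simp) <;> (try ring_nf) <;> (try simp)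

/-- every element of `SL₂(F)` is a product of elementary matrices -/
theorem sl2_mem_closure (M : Matrix.SpecialLinearGroup (Fin 2) F) :
    M ∈ Subgroup.closure (Set.range (uM (F := F)) ∪ Set.range (lM (F := F))) := by
  have hu : ∀ t : F, uM t ∈ Subgroup.closure (Set.range (uM (F := F)) ∪ Set.range (lM (F := F))) :=
    fun t => Subgroup.subset_closure (Or.inl ⟨t, rfl⟩)
  have hl : ∀ t : F, lM t ∈ Subgroup.closure (Set.range (uM (F := F)) ∪ Set.range (lM (F := F))) :=
    fun t => Subgroup.subset_closure (Or.inr ⟨t, rfl⟩)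
  have key : ∀ M : Matrix.SpecialLinearGroup (Fin 2) F, M.1 0 1 ≠ 0 →
      M ∈ Subgroup.closure (Set.range (uM (F := F)) ∪ Set.range (lM (F := F))) := by
    intro M hM
    obtain ⟨c, hc⟩ : ∃ c, c = M.1 0 1 := ⟨_, rfl⟩
    have hc0 : c ≠ 0 := by rw [hc]; exact hM
    have hdet := sl2_det M
    obtain ⟨x, hx⟩ : ∃ x, x = M.1 1 1 / c := ⟨_, rfl⟩
    obtain ⟨y, hy⟩ : ∃ y, y = M.1 0 0 / c := ⟨_, rfl⟩
    have e1 : M = lM x * (uM c * lM (-c⁻¹) * uM c) * lM y := by
      apply sl2_ext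
      · simp [uM_val, lM_val, Matrix.SpecialLinearGroup.coe_mul, Matrix.mul_apply, Fin.sum_univ_two]
        rw [hy]; field_simp; ring
      · simp [uM_val, lM_val, Matrix.SpecialLinearGroup.coe_mul, Matrix.mul_apply, Fin.sum_univ_two]
        rw [hc]; field_simp; ring
      · simp [uM_val, lM_val, Matrix.SpecialLinearGroup.coe_mul, Matrix.mul_apply, Fin.sum_univ_two]
        rw [hx, hy]; field_simp
        rw [← hc] at hdet; linear_combination (-1 : F) * hdet
      · simp [uM_val, lM_val, Matrix.SpecialLinearGroup.coe_mul, Matrix.mul_apply, Fin.sum_univ_two]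
        rw [hx]; field_simp; ring
    rw [e1]
    exact Subgroup.mul_mem _ (Subgroup.mul_mem _ (hl _)
      (Subgroup.mul_mem _ (Subgroup.mul_mem _ (hu _) (hl _)) (hu _))) (hl _)
  by_cases hM : M.1 0 1 = 0
  · have h00 : M.1 0 0 ≠ 0 := by
      intro h0
      have := sl2_det M
      rw [hM, h0] at this
      simp at this
    have e : M = (M * uM 1) * uM (-1) := by
      rw [mul_assoc, uM_add, add_neg_cancel, uM_zero, mul_one]
    rw [e]
    refine Subgroup.mul_mem _ (key _ ?_) (hu _)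
    simp [uM_val, Matrix.SpecialLinearGroup.coe_mul, Matrix.mul_apply, Fin.sum_univ_two, hM, h00]
  · exact key M hM

section rankone

variable (φ : Matrix.SpecialLinearGroup (Fin 2) F →* G) (V : Subgroup G)
  (hl : ∀ t : F, φ (lM t) ∈ V) (h0 : ∀ t : F, φ (uM t) ∈ V → t = 0)
include hl h0

/-- an element of `SL₂` with non-zero upper right entry is not mapped into `V` -/
theorem phi_not_mem_V' {M : Matrix.SpecialLinearGroup (Fin 2) F} (hM : M.1 0 1 ≠ 0) :
    φ M ∉ V := by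
  intro hmem
  obtain ⟨c, hc⟩ : ∃ c, c = M.1 0 1 := ⟨_, rfl⟩
  have hc0 : c ≠ 0 := by rw [hc]; exact hM
  have hdet := sl2_det M
  obtain ⟨x, hx⟩ : ∃ x, x = M.1 1 1 / c := ⟨_, rfl⟩
  obtain ⟨y, hy⟩ : ∃ y, y = M.1 0 0 / c := ⟨_, rfl⟩
  have e1 : M = lM x * (uM c * lM (-c⁻¹) * uM c) * lM y := by
    apply sl2_ext
    · simp [uM_val, lM_val, Matrix.SpecialLinearGroup.coe_mul, Matrix.mul_apply, Fin.sum_univ_two]
      rw [hy]; field_simp; ring
    · simp [uM_val, lM_val, Matrix.SpecialLinearGroup.coe_mul, Matrix.mul_apply, Fin.sum_univ_two]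
      rw [hc]; field_simp; ring
    · simp [uM_val, lM_val, Matrix.SpecialLinearGroup.coe_mul, Matrix.mul_apply, Fin.sum_univ_two]
      rw [hx, hy]; field_simp
      rw [← hc] at hdet; linear_combination (-1 : F) * hdet
    · simp [uM_val, lM_val, Matrix.SpecialLinearGroup.coe_mul, Matrix.mul_apply, Fin.sum_univ_two]
      rw [hx]; field_simp; ring
  have hw : φ (uM c * lM (-c⁻¹) * uM c) ∈ V := by
    have e2 : uM c * lM (-c⁻¹) * uM c = (lM x)⁻¹ * M * (lM y)⁻¹ := by
      rw [e1]; group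
    rw [e2, map_mul, map_mul, map_inv, map_inv]
    exact Subgroup.mul_mem _ (Subgroup.mul_mem _ (Subgroup.inv_mem _ (hl _)) hmem)
      (Subgroup.inv_mem _ (hl _))
  have e3 : (uM c * lM (-c⁻¹) * uM c) * lM 1 * (uM c * lM (-c⁻¹) * uM c)⁻¹ = uM (-c ^ 2) := by
    have := wM_conj_lM hc0 (1 : F)
    rw [mul_one] at this
    exact this
  have h4 : φ (uM (-c ^ 2)) ∈ V := by
    rw [← e3, map_mul, map_mul, map_inv]
    exact Subgroup.mul_mem _ (Subgroup.mul_mem _ hw (hl _)) (Subgroup.inv_mem _ hw)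
  have := h0 _ h4
  apply hc0
  have h5 : c ^ 2 = 0 := by linear_combination (-1 : F) * this
  exact pow_eq_zero_iff (two_ne_zero) |>.1 h5

/-- if `u(a) l(b) u(a)` conjugates a non-trivial `u(s)` into `V` then `a b = -1` -/
theorem mul_eq_neg_one_of_conj' {a b s : F} (hs : s ≠ 0)
    (h : φ ((uM a * lM b * uM a) * uM s * (uM a * lM b * uM a)⁻¹) ∈ V) : a * b = -1 := by
  by_contra hab
  have hne : 1 + a * b ≠ 0 := fun h0 => hab (by linear_combination h0)
  refine phi_not_mem_V' φ V hl h0 ?_ h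
  have e : (uM a * lM b * uM a)⁻¹ = uM (-a) * lM (-b) * uM (-a) := by
    rw [mul_inv_rev, mul_inv_rev, uM_inv, lM_inv, mul_assoc]
  rw [e]
  have : ((uM a * lM b * uM a) * uM s * (uM (-a) * lM (-b) * uM (-a))).1 0 1 =
      (1 + a * b) ^ 2 * s := by
    simp [uM_val, lM_val, Matrix.SpecialLinearGroup.coe_mul, Matrix.SpecialLinearGroup.coe_one, Matrix.mul_apply, Fin.sum_univ_two]; ring
  rw [this]
  exact mul_ne_zero (pow_ne_zero _ hne) hs

end rankone

/-- the pointwise product of two homomorphisms with commuting ranges -/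
def mulHom {M : Type*} [Monoid M] (φ ψ : M →* G) (h : ∀ m n, Commute (φ m) (ψ n)) : M →* G where
  toFun m := φ m * ψ m
  map_one' := by simp
  map_mul' a b := by
    rw [map_mul, map_mul]
    calc φ a * φ b * (ψ a * ψ b) = φ a * (φ b * ψ a) * ψ b := by group
      _ = φ a * (ψ a * φ b) * ψ b := by rw [(h b a).eq]
      _ = φ a * ψ a * (φ b * ψ b) := by group

theorem mulHom_apply {M : Type*} [Monoid M] (φ ψ : M →* G) (h : ∀ m n, Commute (φ m) (ψ n))
    (m : M) : mulHom φ ψ h m = φ m * ψ m := rfl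

end Cfsg.Agent.Helper2.TwAut
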