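import Mathlib
import Cfsg.Agent.Helper2.TwAut.R1
import Cfsg.Agent.Helper11.TwTorA
import Cfsg.Agent.Helper6.Chev.TwInst

/-!
# The root elements of a twisted group attached to the orbits of fundamental roots
-/

set_option autoImplicit false
set_option linter.unusedSectionVars false
set_option linter.unusedSimpArgs false
set_option linter.unusedVariables false

namespace Cfsg.Agent.Helper2.TwAut

open Cfsg.Lie Cfsg.Agent.Helper6 Cfsg.Agent.Helper2.Aut
open Cfsg.Agent.Helper11.TwCtx Cfsg.Agent.Helper11.TwReach Cfsg.Agent.Helper11.TwBNA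
  Cfsg.Agent.Helper11.TwBNB Cfsg.Agent.Helper11.TwBNC Cfsg.Agent.Helper11.TwBND
  Cfsg.Agent.Helper11.TwTorA Cfsg.Agent.Helper11.TwFix

variable {D : ChevalleyDatum} {F : Type*} [Field F]

/-- the twisted root element `x_J(a)` -/
def xP (X : Ctx D F) (J : List ℕ) (a : F) : GL D.Idx F := wordU X.hB (orbWord D X.f true J a)

/-- the twisted root element `x_{-J}(a)` -/
def xN (X : Ctx D F) (J : List ℕ) (a : F) : GL D.Idx F := wordU X.hB (orbWord D X.f false J a)

/-- the parameter set of the orbit `J` -/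
def AJ (X : Ctx D F) (J : List ℕ) (a : F) : Prop := J.length = 1 → X.f a = a

section AJ

variable (X : Ctx D F) (J : List ℕ)

theorem AJ_zero : AJ X J 0 := fun _ => map_zero _
theorem AJ_one : AJ X J 1 := fun _ => map_one _
theorem AJ_add {a b : F} (ha : AJ X J a) (hb : AJ X J b) : AJ X J (a + b) :=
  fun h => by rw [map_add, ha h, hb h]
theorem AJ_neg {a : F} (ha : AJ X J a) : AJ X J (-a) := fun h => by rw [map_neg, ha h]
theorem AJ_sub {a b : F} (ha : AJ X J a) (hb : AJ X J b) : AJ X J (a - b) :=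
  fun h => by rw [map_sub, ha h, hb h]
theorem AJ_mul {a b : F} (ha : AJ X J a) (hb : AJ X J b) : AJ X J (a * b) :=
  fun h => by rw [map_mul, ha h, hb h]
theorem AJ_inv {a : F} (ha : AJ X J a) : AJ X J a⁻¹ := fun h => by rw [map_inv₀, ha h]
theorem AJ_div {a b : F} (ha : AJ X J a) (hb : AJ X J b) : AJ X J (a / b) :=
  fun h => by rw [map_div₀, ha h, hb h]
theorem AJ_pow {a : F} (ha : AJ X J a) (n : ℕ) : AJ X J (a ^ n) :=
  fun h => by rw [map_pow, ha h]
theorem AJ_of_length {a : F} (h : J.length ≠ 1) : AJ X J a := fun h' => absurd h' h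
theorem AJ_natCast (n : ℕ) : AJ X J (n : F) := fun _ => map_natCast _ _
theorem AJ_two : AJ X J (2 : F) := fun _ => map_ofNat _ 2

end AJ

section basic

variable (X : Ctx D F) (Δ : BNData D F) (hsp : ∀ i < D.rank, D.nroots / 2 ≤ D.simple i)
include X Δ hsp

theorem phi_mem_rkJ {i : ℕ} (hi : i < D.rank)
    (φ : Matrix.SpecialLinearGroup (Fin 2) F →* GL D.Idx F)
    (hu : ∀ t : F, φ (uM t) = xU X.hB (D.simple i) t)
    (hl : ∀ t : F, φ (lM t) = xU X.hB (D.neg (D.simple i)) t)
    (M : Matrix.SpecialLinearGroup (Fin 2) F) : φ M ∈ RkJ X.hB F [i] := by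
  have h := sl2_mem_closure M
  have hle : Subgroup.closure (Set.range (uM (F := F)) ∪ Set.range (lM (F := F))) ≤
      (RkJ X.hB F [i]).comap φ := by
    rw [Subgroup.closure_le]
    rintro g (⟨t, rfl⟩ | ⟨t, rfl⟩)
    · rw [SetLike.mem_coe, Subgroup.mem_comap, hu]
      exact xU_pos_mem_rkJ X.hB (List.mem_singleton.2 rfl) t
    · rw [SetLike.mem_coe, Subgroup.mem_comap, hl]
      exact xU_neg_mem_rkJ X.hB (List.mem_singleton.2 rfl) t
  exact hle h

theorem mapSL_uM (f : F ≃+* F) (t : F) :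
    Matrix.SpecialLinearGroup.map (f : F →+* F) (uM t) = uM (f t) := by
  apply sl2_ext <;> simp [uM_val, Matrix.SpecialLinearGroup.map_apply_coe, RingHom.mapMatrix_apply]

theorem mapSL_lM (f : F ≃+* F) (t : F) :
    Matrix.SpecialLinearGroup.map (f : F →+* F) (lM t) = lM (f t) := by
  apply sl2_ext <;> simp [lM_val, Matrix.SpecialLinearGroup.map_apply_coe, RingHom.mapMatrix_apply]

/-- the rank one homomorphism of an orbit -/
theorem exists_phiJ {J : List ℕ} (hJ : OrbOK D X.ρ J) :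
    ∃ Φ : Matrix.SpecialLinearGroup (Fin 2) F →* GL D.Idx F,
      (∀ a : F, Φ (uM a) = xP X J a) ∧ (∀ a : F, Φ (lM a) = xN X J a) := by
  have hphi : ∀ i < D.rank, ∃ φ : Matrix.SpecialLinearGroup (Fin 2) F →* GL D.Idx F,
      (∀ t : F, φ (uM t) = xU X.hB (D.simple i) t) ∧
      (∀ t : F, φ (lM t) = xU X.hB (D.neg (D.simple i)) t) := fun i hi =>
    exists_phi (F := F) X.tab X.hB (X.hAll i hi).hS.1
  match J, hJ with
  | [i], hJ =>
    obtain ⟨φ, hu, hl⟩ := hphi i hJ.1
    refine ⟨φ, fun a => ?_, fun a => ?_⟩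
    · rw [hu]; simp [xP, orbWord, wordU_cons', wordU_nil']
    · rw [hl]; simp [xN, orbWord, wordU_cons', wordU_nil']
  | [i, j], hJ =>
    obtain ⟨hi, hj, _, _, hso⟩ := hJ
    obtain ⟨φi, hui, hli⟩ := hphi i hi
    obtain ⟨φj, huj, hlj⟩ := hphi j hj
    have c : ∀ m n, Commute (φi m)
        ((φj.comp (Matrix.SpecialLinearGroup.map (X.f : F →+* F))) n) := fun m n =>
      rkJ_comm X hsp (J₁ := [i]) (J₂ := [j])
        (fun a ha => by rw [List.mem_singleton] at ha; rw [ha]; exact hi)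
        (fun a ha => by rw [List.mem_singleton] at ha; rw [ha]; exact hj)
        (fun a ha b hb => by
          rw [List.mem_singleton] at ha hb; rw [ha, hb]; exact hso)
        (phi_mem_rkJ X Δ hsp hi φi hui hli m) (phi_mem_rkJ X Δ hsp hj φj huj hlj _)
    refine ⟨mulHom φi (φj.comp (Matrix.SpecialLinearGroup.map (X.f : F →+* F))) c,
      fun a => ?_, fun a => ?_⟩
    · rw [mulHom_apply, MonoidHom.comp_apply, mapSL_uM X Δ hsp, hui, huj]
      simp [xP, orbWord, wordU_cons', wordU_nil']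
    · rw [mulHom_apply, MonoidHom.comp_apply, mapSL_lM X Δ hsp, hli, hlj]
      simp [xN, orbWord, wordU_cons', wordU_nil']
  | [i, j, k], hJ =>
    obtain ⟨hi, hj, hk, _, _, _, hij, hik, hjk⟩ := hJ
    obtain ⟨φi, hui, hli⟩ := hphi i hi
    obtain ⟨φj, huj, hlj⟩ := hphi j hj
    obtain ⟨φk, huk, hlk⟩ := hphi k hk
    have c1 : ∀ m n, Commute (φi m)
        ((φj.comp (Matrix.SpecialLinearGroup.map (X.f : F →+* F))) n) := fun m n =>
      rkJ_comm X hsp (J₁ := [i]) (J₂ := [j])
        (fun a ha => by rw [List.mem_singleton] at ha; rw [ha]; exact hi)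
        (fun a ha => by rw [List.mem_singleton] at ha; rw [ha]; exact hj)
        (fun a ha b hb => by
          rw [List.mem_singleton] at ha hb; rw [ha, hb]; exact hij)
        (phi_mem_rkJ X Δ hsp hi φi hui hli m) (phi_mem_rkJ X Δ hsp hj φj huj hlj _)
    have c2 : ∀ m n, Commute
        (mulHom φi (φj.comp (Matrix.SpecialLinearGroup.map (X.f : F →+* F))) c1 m)
        ((φk.comp ((Matrix.SpecialLinearGroup.map (X.f : F →+* F)).comp
          (Matrix.SpecialLinearGroup.map (X.f : F →+* F)))) n) := by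
      intro m n
      rw [mulHom_apply]
      apply Commute.mul_left
      · exact rkJ_comm X hsp (J₁ := [i]) (J₂ := [k])
          (fun a ha => by rw [List.mem_singleton] at ha; rw [ha]; exact hi)
          (fun a ha => by rw [List.mem_singleton] at ha; rw [ha]; exact hk)
          (fun a ha b hb => by
            rw [List.mem_singleton] at ha hb; rw [ha, hb]; exact hik)
          (phi_mem_rkJ X Δ hsp hi φi hui hli m) (phi_mem_rkJ X Δ hsp hk φk huk hlk _)
      · exact rkJ_comm X hsp (J₁ := [j]) (J₂ := [k])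
          (fun a ha => by rw [List.mem_singleton] at ha; rw [ha]; exact hj)
          (fun a ha => by rw [List.mem_singleton] at ha; rw [ha]; exact hk)
          (fun a ha b hb => by
            rw [List.mem_singleton] at ha hb; rw [ha, hb]; exact hjk)
          (phi_mem_rkJ X Δ hsp hj φj huj hlj _) (phi_mem_rkJ X Δ hsp hk φk huk hlk _)
    refine ⟨mulHom (mulHom φi (φj.comp (Matrix.SpecialLinearGroup.map (X.f : F →+* F))) c1)
      (φk.comp ((Matrix.SpecialLinearGroup.map (X.f : F →+* F)).comp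
          (Matrix.SpecialLinearGroup.map (X.f : F →+* F)))) c2, fun a => ?_, fun a => ?_⟩
    · rw [mulHom_apply, mulHom_apply, MonoidHom.comp_apply, MonoidHom.comp_apply,
        MonoidHom.comp_apply, mapSL_uM X Δ hsp, mapSL_uM X Δ hsp, hui, huj, huk]
      simp [xP, orbWord, wordU_cons', wordU_nil', mul_assoc]
    · rw [mulHom_apply, mulHom_apply, MonoidHom.comp_apply, MonoidHom.comp_apply,
        MonoidHom.comp_apply, mapSL_lM X Δ hsp, mapSL_lM X Δ hsp, hli, hlj, hlk]
      simp [xN, orbWord, wordU_cons', wordU_nil', mul_assoc]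

theorem xP_eq_wp {J : List ℕ} (hJ : OrbOK D X.ρ J) (a : F) :
    xP X J a = wp X.hB J (orbFun D X.f J a) := (orbWord_eq' X.hB X.f hJ a).1

theorem xN_eq_wn {J : List ℕ} (hJ : OrbOK D X.ρ J) (a : F) :
    xN X J a = wn X.hB J (orbFun D X.f J a) := (orbWord_eq' X.hB X.f hJ a).2

theorem xP_mem_posUnipotent {J : List ℕ} (hJ : OrbOK D X.ρ J) (a : F) :
    xP X J a ∈ D.posUnipotent F := by
  rw [xP_eq_wp X Δ hsp hJ]
  exact wp_mem_posUnipotent X Δ hsp hJ.lt _

theorem xN_mem_negUnipotent {J : List ℕ} (hJ : OrbOK D X.ρ J) (a : F) :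
    xN X J a ∈ D.negUnipotent F := by
  rw [xN_eq_wn X Δ hsp hJ]
  exact wn_mem_negUnipotent X Δ hsp hJ.lt _

/-- the value of the coefficient function at the first root of the orbit -/
theorem orbFun_head {J : List ℕ} (hJ : OrbOK D X.ρ J) (a : F) :
    ∃ i ∈ J, orbFun D X.f J a (D.simple i) = a := by
  match J, hJ with
  | [i], _ => exact ⟨i, List.mem_singleton.2 rfl, rfl⟩
  | [i, j], _ => exact ⟨i, by simp, by simp [orbFun]⟩
  | [i, j, k], _ => exact ⟨i, by simp, by simp [orbFun]⟩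

theorem orbFun_ne_zero {J : List ℕ} (hJ : OrbOK D X.ρ J) {a : F} (ha : a ≠ 0) (r : ℕ) :
    orbFun D X.f J a r ≠ 0 := by
  have hf1 : X.f a ≠ 0 := fun h => ha ((map_eq_zero _).1 h)
  have hf2 : X.f (X.f a) ≠ 0 := fun h => hf1 ((map_eq_zero _).1 h)
  match J, hJ with
  | [i₀], _ => exact ha
  | [i₀, j₀], _ =>
    simp only [orbFun]
    split_ifs <;> assumption
  | [i₀, j₀, k₀], _ =>
    simp only [orbFun]
    split_ifs <;> assumption

end basic

section cls

variable (X : Ctx D F) (Δ : BNData D F) (hsp : ∀ i < D.rank, D.nroots / 2 ≤ D.simple i)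
  {J C : List ℕ} (hJ : OrbOK D X.ρ J) (hC : C ∈ X.cls) (hperm : C.Perm (J.map D.simple))
include X Δ hsp hJ hC hperm

theorem xP_inj {a b : F} (h : xP X J a = xP X J b) : a = b := by
  rw [xP_eq_wp X Δ hsp hJ, xP_eq_wp X Δ hsp hJ] at h
  have := wp_inj X Δ hsp hJ hC hperm h
  obtain ⟨i, hi, e⟩ := orbFun_head X Δ hsp hJ a
  match J, hJ, this with
  | [i], _, this => exact this i (List.mem_singleton.2 rfl)
  | [i, j], _, this =>
    have := this i (by simp)
    simpa [orbFun] using this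
  | [i, j, k], _, this =>
    have := this i (by simp)
    simpa [orbFun] using this

theorem xP_zero : xP X J 0 = 1 := by
  rw [xP_eq_wp X Δ hsp hJ]
  have : orbFun D X.f J (0 : F) = fun _ => (0 : F) := by
    funext r
    match J, hJ with
    | [i], _ => rfl
    | [i, j], _ => simp [orbFun]
    | [i, j, k], _ => simp [orbFun]
  rw [this]
  exact wp_zero X Δ hsp J

theorem eq_zero_of_xP_mem_negUnipotent {a : F} (h : xP X J a ∈ D.negUnipotent F) : a = 0 := by
  have h1 := Δ.eq_one_of_mem_U_of_mem_V (xP_mem_posUnipotent X Δ hsp hJ a) h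
  rw [← xP_zero X Δ hsp hJ hC hperm] at h1
  exact xP_inj X Δ hsp hJ hC hperm h1

/-- a `σ`-fixed element of `X_J` is a twisted root element -/
theorem exists_xP_of_fix {t : ℕ → F} (h : X.sig (wp X.hB J t) = wp X.hB J t) :
    ∃ a : F, AJ X J a ∧ wp X.hB J t = xP X J a := by
  have h' := (wp_fix_iff X Δ hsp hJ hC hperm t).1 h
  match J, hJ, h' with
  | [i], hJ, h' =>
    obtain ⟨hi, hρ⟩ := hJ
    have e := (X.hG.1 i hi).2.2.1
    rw [hρ] at e
    have h1 := h' i (List.mem_singleton.2 rfl)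
    rw [e] at h1
    refine ⟨t (D.simple i), fun _ => h1.symm, ?_⟩
    simp [xP, orbWord, wp, wordU_cons', wordU_nil']
  | [i, j], hJ, h' =>
    obtain ⟨hi, hj, h1, h2, hso⟩ := hJ
    have ei := (X.hG.1 i hi).2.2.1
    rw [h1] at ei
    have hj' := h' j (by simp)
    rw [ei] at hj'
    refine ⟨t (D.simple i), fun hl => absurd hl (by simp), ?_⟩
    simp [xP, orbWord, wp, wordU_cons', wordU_nil', hj']
  | [i, j, k], hJ, h' =>
    obtain ⟨hi, hj, hk, h1, h2, h3, _⟩ := hJ
    have ei := (X.hG.1 i hi).2.2.1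
    rw [h1] at ei
    have ej := (X.hG.1 j hj).2.2.1
    rw [h2] at ej
    have hj' := h' j (by simp)
    rw [ei] at hj'
    have hk' := h' k (by simp)
    rw [ej, hj'] at hk'
    refine ⟨t (D.simple i), fun hl => absurd hl (by simp), ?_⟩
    simp [xP, orbWord, wp, wordU_cons', wordU_nil', hj', hk']

end cls

end Cfsg.Agent.Helper2.TwAut
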