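import Mathlib
import Cfsg.Agent.Helper2.TwAut.Orb
import Cfsg.Agent.Helper2.Tri.Inj
import Cfsg.Agent.Helper2.Aut.OutA

/-!
# The subgroups `U¹`, `V¹` of a twisted group, and the splitting of `U¹`
-/

set_option autoImplicit false
set_option linter.unusedSectionVars false
set_option linter.unusedSimpArgs false
set_option linter.unusedVariables false

namespace Cfsg.Agent.Helper2.TwAut

open Cfsg.Lie Cfsg.Agent.Helper6 Cfsg.Agent.Helper2.Aut Cfsg.Agent.Helper2.BN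
open Cfsg.Agent.Helper11.TwCtx Cfsg.Agent.Helper11.TwReach Cfsg.Agent.Helper11.TwBNA
  Cfsg.Agent.Helper11.TwBNB Cfsg.Agent.Helper11.TwBNC Cfsg.Agent.Helper11.TwBND
  Cfsg.Agent.Helper11.TwTorA Cfsg.Agent.Helper11.TwFix

variable {D : ChevalleyDatum} {F : Type*} [Field F]

/-- `U¹ = U ∩ G¹` -/
def U1 (D : ChevalleyDatum) (F : Type*) [Field F] (G1 : Subgroup (GL D.Idx F)) : Subgroup ↥G1 :=
  (D.posUnipotent F ⊓ G1).subgroupOf G1

/-- `V¹ = V ∩ G¹` -/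
def V1 (D : ChevalleyDatum) (F : Type*) [Field F] (G1 : Subgroup (GL D.Idx F)) : Subgroup ↥G1 :=
  (D.negUnipotent F ⊓ G1).subgroupOf G1

theorem mem_U1 {G1 : Subgroup (GL D.Idx F)} {g : ↥G1} :
    g ∈ U1 D F G1 ↔ (g : GL D.Idx F) ∈ D.posUnipotent F := by
  unfold U1
  rw [Subgroup.mem_subgroupOf, Subgroup.mem_inf]
  exact ⟨fun h => h.1, fun h => ⟨h, g.2⟩⟩

theorem mem_V1 {G1 : Subgroup (GL D.Idx F)} {g : ↥G1} :
    g ∈ V1 D F G1 ↔ (g : GL D.Idx F) ∈ D.negUnipotent F := by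
  unfold V1
  rw [Subgroup.mem_subgroupOf, Subgroup.mem_inf]
  exact ⟨fun h => h.1, fun h => ⟨h, g.2⟩⟩

/-- the longest element of the Weyl group, represented in `G¹` -/
structure N0 (G1 : Subgroup (GL D.Idx F)) (n0 : GL D.Idx F) : Prop where
  mem : n0 ∈ G1
  mono : n0 ∈ D.monomialSubgroup F
  UV : ∀ u ∈ D.posUnipotent F, n0 * u * n0⁻¹ ∈ D.negUnipotent F
  VU : ∀ v ∈ D.negUnipotent F, n0 * v * n0⁻¹ ∈ D.posUnipotent F
  UV' : ∀ u ∈ D.posUnipotent F, n0⁻¹ * u * n0 ∈ D.negUnipotent F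
  VU' : ∀ v ∈ D.negUnipotent F, n0⁻¹ * v * n0 ∈ D.posUnipotent F

section main

variable {X : Ctx D F} {G1 : Subgroup (GL D.Idx F)} {orbs : List (List ℕ)} (T : TwData X G1 orbs)
include T

theorem U1_le_B1 : U1 D F G1 ≤ B1 D F G1 := by
  intro g hg
  rw [mem_U1] at hg
  rw [mem_B1]
  exact T.bn.posUnipotent_le_borel hg

theorem eq_one_of_mem_B1_of_mem_V1 {g : ↥G1} (h1 : g ∈ B1 D F G1) (h2 : g ∈ V1 D F G1) :
    g = 1 := by
  rw [mem_B1] at h1
  rw [mem_V1] at h2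
  have : (g : GL D.Idx F) ∈ D.borelSubgroup F ⊓ D.negUnipotent F := ⟨h1, h2⟩
  rw [borel_inf_negUnipotent X.hB T.bn.hH T.bn.good2, Subgroup.mem_bot] at this
  exact Subtype.ext this

theorem B1_le_normalizer_U1 :
    B1 D F G1 ≤ Subgroup.normalizer ((U1 D F G1 : Subgroup ↥G1) : Set ↥G1) := by
  intro b hb
  rw [mem_B1] at hb
  have hb' : (b : GL D.Idx F) ∈ Subgroup.normalizer ((D.posUnipotent F : Subgroup (GL D.Idx F)) :
      Set (GL D.Idx F)) := by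
    have : D.borelSubgroup F ≤ Subgroup.normalizer ((D.posUnipotent F : Subgroup (GL D.Idx F)) :
        Set (GL D.Idx F)) := by
      unfold ChevalleyDatum.borelSubgroup
      exact sup_le Subgroup.le_normalizer
        (diagonal_le_normalizer_posUnipotent T.bn.hB T.bn.hAll T.bn.hAdd T.bn.hH)
    exact this hb
  rw [Subgroup.mem_normalizer_iff] at hb' ⊢
  intro u
  rw [mem_U1, mem_U1]
  have := hb' (u : GL D.Idx F)
  simpa using this

/-- the twisted root elements, as a total function into `G¹` -/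
noncomputable def xT (b : Bool) (J : List ℕ) (a : F) : ↥G1 := by
  classical
  exact if h : J ∈ orbs ∧ AJ X J a then
    ⟨wordU X.hB (orbWord D X.f b J a), T.hgen_mem J h.1 b a h.2⟩ else 1

theorem xT_true_coe {J : List ℕ} (hJ : J ∈ orbs) {a : F} (ha : AJ X J a) :
    ((xT T true J a : ↥G1) : GL D.Idx F) = xP X J a := by
  unfold xT
  rw [dif_pos ⟨hJ, ha⟩]
  rfl

theorem xT_false_coe {J : List ℕ} (hJ : J ∈ orbs) {a : F} (ha : AJ X J a) :
    ((xT T false J a : ↥G1) : GL D.Idx F) = xN X J a := by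
  unfold xT
  rw [dif_pos ⟨hJ, ha⟩]
  rfl

/-- the element `n_J` in `G¹` -/
def nG {J : List ℕ} (hJ : J ∈ orbs) : ↥G1 := ⟨nJ X.hB J, nJ_mem T hJ⟩

theorem nG_mem_S {J : List ℕ} (hJ : J ∈ orbs) : nG T hJ ∈ (bnPair' T).S := ⟨J, hJ, rfl⟩

theorem xT_true_mem_U1 {J : List ℕ} (hJ : J ∈ orbs) {a : F} (ha : AJ X J a) :
    xT T true J a ∈ U1 D F G1 := by
  rw [mem_U1, xT_true_coe T hJ ha]
  exact xP_mem_posUnipotent X T.bn T.hsp (T.horb J hJ) a

theorem xT_false_mem_V1 {J : List ℕ} (hJ : J ∈ orbs) {a : F} (ha : AJ X J a) :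
    xT T false J a ∈ V1 D F G1 := by
  rw [mem_V1, xT_false_coe T hJ ha]
  exact xN_mem_negUnipotent X T.bn T.hsp (T.horb J hJ) a

/-- the splitting `U¹ = (U¹ ∩ n⁻¹ U n)(U¹ ∩ n⁻¹ V n)` -/
theorem split {n : GL D.Idx F} (hnN : n ∈ D.monomialSubgroup F) (hnG : n ∈ G1)
    {u : GL D.Idx F} (hu : u ∈ D.posUnipotent F) (huG : u ∈ G1) :
    ∃ a c : GL D.Idx F, a ∈ D.posUnipotent F ∧ a ∈ G1 ∧ n * a * n⁻¹ ∈ D.posUnipotent F ∧
      c ∈ D.posUnipotent F ∧ c ∈ G1 ∧ n * c * n⁻¹ ∈ D.negUnipotent F ∧ u = a * c := by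
  obtain ⟨a, ha, hna, c, hc, e⟩ := T.bn.adec_of_mem hnN u hu
  have hcU := T.bn.unegGen_le_posUnipotent _ hc
  have hnfix : X.sig n = n := T.hfix hnG
  have hufix : X.sig u = u := T.hfix huG
  have hτ : X.sig a * X.sig c = a * c := by rw [← map_mul, ← e, hufix]
  have hτa : n * X.sig a * n⁻¹ ∈ D.posUnipotent F := by
    have := sig_mem_posUnipotent X T.bn T.hsp hna
    rwa [map_mul, map_mul, map_inv, hnfix] at this
  have hτc : X.sig c ∈ T.bn.Un n := by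
    rw [T.bn.mem_Un_iff hnN] at hc ⊢
    refine ⟨sig_mem_posUnipotent X T.bn T.hsp hc.1, ?_⟩
    have := Cfsg.Agent.Helper6.sig_mem_negUnipotent X T.bn T.hsp hc.2
    rwa [map_mul, map_mul, map_inv, hnfix] at this
  obtain ⟨ea, ec⟩ := T.bn.adec_unique hτa hna hτc hc hτ
  have haG : a ∈ G1 := T.hUfix ⟨ea, ha⟩
  have hcG : c ∈ G1 := T.hUfix ⟨ec, hcU⟩
  exact ⟨a, c, ha, haG, hna, hcU, hcG, ((T.bn.mem_Un_iff hnN).1 hc).2, e⟩

end main

section n0

variable {X : Ctx D F} {G1 : Subgroup (GL D.Idx F)} {orbs : List (List ℕ)} (T : TwData X G1 orbs)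
  {n0 : GL D.Idx F} (hn0 : N0 G1 n0)
include T hn0

/-- the longest element in `G¹` -/
def n0G : ↥G1 := ⟨n0, hn0.mem⟩

theorem mem_V1_iff (y : ↥G1) :
    y ∈ V1 D F G1 ↔ (n0G hn0)⁻¹ * y * n0G hn0 ∈ U1 D F G1 := by
  rw [mem_V1, mem_U1]
  simp only [Subgroup.coe_mul, Subgroup.coe_inv, n0G]
  constructor
  · exact hn0.VU' _
  · intro h
    have := hn0.UV _ h
    have e : n0 * (n0⁻¹ * (y : GL D.Idx F) * n0) * n0⁻¹ = y := by group
    rwa [e] at this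

theorem mem_U1_iff (y : ↥G1) :
    y ∈ U1 D F G1 ↔ (n0G hn0)⁻¹ * y * n0G hn0 ∈ V1 D F G1 := by
  rw [mem_V1, mem_U1]
  simp only [Subgroup.coe_mul, Subgroup.coe_inv, n0G]
  constructor
  · exact hn0.UV' _
  · intro h
    have := hn0.VU _ h
    have e : n0 * (n0⁻¹ * (y : GL D.Idx F) * n0) * n0⁻¹ = y := by group
    rwa [e] at this

theorem mem_U1_iff' (y : ↥G1) :
    y ∈ U1 D F G1 ↔ n0G hn0 * y * (n0G hn0)⁻¹ ∈ V1 D F G1 := by
  rw [mem_V1, mem_U1]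
  simp only [Subgroup.coe_mul, Subgroup.coe_inv, n0G]
  constructor
  · exact hn0.UV _
  · intro h
    have := hn0.VU' _ h
    have e : n0⁻¹ * (n0 * (y : GL D.Idx F) * n0⁻¹) * n0 = y := by group
    rwa [e] at this

theorem mem_V1_iff' (y : ↥G1) :
    y ∈ V1 D F G1 ↔ n0G hn0 * y * (n0G hn0)⁻¹ ∈ U1 D F G1 := by
  rw [mem_V1, mem_U1]
  simp only [Subgroup.coe_mul, Subgroup.coe_inv, n0G]
  constructor
  · exact hn0.VU _
  · intro h
    have := hn0.UV' _ h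
    have e : n0⁻¹ * (n0 * (y : GL D.Idx F) * n0⁻¹) * n0 = y := by group
    rwa [e] at this

end n0

end Cfsg.Agent.Helper2.TwAut
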