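import Mathlib
import Cfsg.Agent.Helper2.TwAut.Sub
import Cfsg.Agent.Helper2.Aut.Sylow
import Cfsg.Agent.Helper2.BN.Parabolic

/-!
# Normalising an automorphism of a twisted group: `θ(U¹) = U¹`, `θ(V¹) = V¹`
-/

set_option autoImplicit false
set_option linter.unusedSectionVars false
set_option linter.unusedSimpArgs false
set_option linter.unusedVariables false

namespace Cfsg.Agent.Helper2.TwAut

open Cfsg.Lie Cfsg.Agent.Helper6 Cfsg.Agent.Helper2.Aut Cfsg.Agent.Helper2.BN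
open Cfsg.Agent.Helper11.TwCtx Cfsg.Agent.Helper11.TwReach Cfsg.Agent.Helper11.TwBNA
  Cfsg.Agent.Helper11.TwBNB Cfsg.Agent.Helper11.TwBNC Cfsg.Agent.Helper11.TwBND
  Cfsg.Agent.Helper11.TwTorA Cfsg.Agent.Helper11.TwFix

variable {D : ChevalleyDatum} {F : Type*} [Field F]

/-- a rank one homomorphism of the orbit `J` -/
structure IsPhi (X : Ctx D F) (J : List ℕ)
    (Φ : Matrix.SpecialLinearGroup (Fin 2) F →* GL D.Idx F) : Prop where
  hu : ∀ a : F, Φ (uM a) = xP X J a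
  hl : ∀ a : F, Φ (lM a) = xN X J a

section phi

variable {X : Ctx D F} {G1 : Subgroup (GL D.Idx F)} {orbs : List (List ℕ)} (T : TwData X G1 orbs)
  {J : List ℕ} (hJ : J ∈ orbs) {Φ : Matrix.SpecialLinearGroup (Fin 2) F →* GL D.Idx F}
  (hΦ : IsPhi X J Φ)
include T hJ hΦ

theorem IsPhi.nJ_eq : nJ X.hB J = Φ (wM 1) := by
  rw [Cfsg.Agent.Helper11.TwReach.nJ_eq X T.hsp (T.horb J hJ)]
  unfold wM
  rw [map_mul, map_mul, hΦ.hu, hΦ.hl, inv_one]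
  rfl

theorem IsPhi.lV (t : F) : Φ (lM t) ∈ D.negUnipotent F := by
  rw [hΦ.hl]; exact xN_mem_negUnipotent X T.bn T.hsp (T.horb J hJ) t

theorem IsPhi.uU (t : F) : Φ (uM t) ∈ D.posUnipotent F := by
  rw [hΦ.hu]; exact xP_mem_posUnipotent X T.bn T.hsp (T.horb J hJ) t

theorem IsPhi.h0 (t : F) (h : Φ (uM t) ∈ D.negUnipotent F) : t = 0 := by
  obtain ⟨C, hC, hperm⟩ := T.hcls J hJ
  rw [hΦ.hu] at h
  exact eq_zero_of_xP_mem_negUnipotent X T.bn T.hsp (T.horb J hJ) hC hperm h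

theorem IsPhi.uM_eq_one {t : F} (h : Φ (uM t) = 1) : t = 0 :=
  hΦ.h0 T hJ t (by rw [h]; exact Subgroup.one_mem _)

theorem IsPhi.lM_eq_one {t : F} (h : Φ (lM t) = 1) : t = 0 := by
  have e := wM_conj_lM (one_ne_zero (α := F)) t
  have h1 : Φ (uM (-1 ^ 2 * t)) = 1 := by
    rw [← e, map_mul, map_mul, h, mul_one, map_inv, mul_inv_cancel]
  have := hΦ.uM_eq_one T hJ h1
  simpa using this

theorem xN_inj {a b : F} (h : xN X J a = xN X J b) : a = b := by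
  have h1 : Φ (lM (a - b)) = 1 := by
    rw [sub_eq_add_neg, ← lM_add, map_mul, ← lM_inv, map_inv, hΦ.hl, hΦ.hl, h, mul_inv_cancel]
  exact sub_eq_zero.1 (hΦ.lM_eq_one T hJ h1)

theorem xP_inj' {a b : F} (h : xP X J a = xP X J b) : a = b := by
  have h1 : Φ (uM (a - b)) = 1 := by
    rw [sub_eq_add_neg, ← uM_add, map_mul, ← uM_inv, map_inv, hΦ.hu, hΦ.hu, h, mul_inv_cancel]
  exact sub_eq_zero.1 (hΦ.uM_eq_one T hJ h1)

end phi

section main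

variable {X : Ctx D F} {G1 : Subgroup (GL D.Idx F)} {orbs : List (List ℕ)} (T : TwData X G1 orbs)
include T

theorem exists_isPhi {J : List ℕ} (hJ : J ∈ orbs) :
    ∃ Φ : Matrix.SpecialLinearGroup (Fin 2) F →* GL D.Idx F, IsPhi X J Φ := by
  obtain ⟨Φ, h1, h2⟩ := exists_phiJ X T.bn T.hsp (T.horb J hJ)
  exact ⟨Φ, ⟨h1, h2⟩⟩

/-- `n_J` does not normalise `U¹` -/
theorem nG_not_mem_normalizer {J : List ℕ} (hJ : J ∈ orbs) :
    nG T hJ ∉ Subgroup.normalizer ((U1 D F G1 : Subgroup ↥G1) : Set ↥G1) := by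
  intro hmem
  obtain ⟨Φ, hΦ⟩ := exists_isPhi T hJ
  rw [Subgroup.mem_normalizer_iff] at hmem
  have h1 := (hmem (xT T true J 1)).1 (xT_true_mem_U1 T hJ (AJ_one X J))
  rw [mem_U1] at h1
  simp only [Subgroup.coe_mul, Subgroup.coe_inv, xT_true_coe T hJ (AJ_one X J)] at h1
  change nJ X.hB J * xP X J 1 * (nJ (F := F) X.hB J)⁻¹ ∈ D.posUnipotent F at h1
  rw [hΦ.nJ_eq T hJ, ← hΦ.hu, ← map_inv, ← map_mul, ← map_mul,
    wM_conj_uM (one_ne_zero (α := F))] at h1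
  have h2 := T.bn.eq_one_of_mem_U_of_mem_V h1 (hΦ.lV T hJ _)
  have := hΦ.lM_eq_one T hJ h2
  simp at this

/-- `N_{G¹}(U¹) = B¹` -/
theorem normalizer_U1 :
    Subgroup.normalizer ((U1 D F G1 : Subgroup ↥G1) : Set ↥G1) = B1 D F G1 := by
  obtain ⟨P, hP⟩ : ∃ P, P = bnPair' T := ⟨_, rfl⟩
  have hB : P.B = B1 D F G1 := by rw [hP]; rfl
  have hBM : P.B ≤ Subgroup.normalizer ((U1 D F G1 : Subgroup ↥G1) : Set ↥G1) := by
    rw [hB]; exact B1_le_normalizer_U1 T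
  have hM := eq_parabolic_of_le (P := P) _ hBM
  have hemp : P.S ∩ ((Subgroup.normalizer ((U1 D F G1 : Subgroup ↥G1) : Set ↥G1) :
      Subgroup ↥G1) : Set ↥G1) = ∅ := by
    rw [Set.eq_empty_iff_forall_notMem]
    rintro s ⟨hsS, hsM⟩
    rw [hP] at hsS
    obtain ⟨J, hJ, hs⟩ := hsS
    have : s = nG T hJ := Subtype.ext hs
    rw [this] at hsM
    exact nG_not_mem_normalizer T hJ hsM
  rw [hemp] at hM
  rw [hM, ← hB]
  simp [Cfsg.BNPair.parabolic]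

theorem pres_B1 {θ : ↥G1 ≃* ↥G1} (h : Pres θ (U1 D F G1)) : Pres θ (B1 D F G1) :=
  h.normalizer.eq_of_eq (normalizer_U1 T)

/-- after an inner automorphism, `θ` preserves `U¹` -/
theorem exists_pres_U1 [Finite F] (p : ℕ) [Fact p.Prime]
    (hSyl : ∃ P : Sylow p ↥G1, (P : Subgroup ↥G1) = U1 D F G1) (θ : ↥G1 ≃* ↥G1) :
    ∃ x : ↥G1, Pres (cjA x θ) (U1 D F G1) := by
  obtain ⟨P, hP⟩ := hSyl
  haveI : Finite ↥G1 := inferInstance
  let θ' : MulAut ↥G1 := θ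
  obtain ⟨g, hg⟩ := MulAction.exists_smul_eq ↥G1 (θ' • P) P
  refine ⟨g⁻¹, fun y => ?_⟩
  have h1 : ∀ z : ↥G1, z ∈ U1 D F G1 ↔ θ'⁻¹ • ((MulAut.conj g)⁻¹ • z) ∈ U1 D F G1 := by
    intro z
    have e := congrArg (fun Q : Sylow p ↥G1 => (Q : Subgroup ↥G1)) hg
    simp only [Sylow.coe_subgroup_smul, Sylow.pointwise_smul_def] at e
    have hU : U1 D F G1 = (P : Subgroup ↥G1) := hP.symm
    rw [hU]
    conv_lhs => rw [← e]
    rw [Subgroup.mem_pointwise_smul_iff_inv_smul_mem, Subgroup.mem_pointwise_smul_iff_inv_smul_mem]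
  rw [cjA_apply, inv_inv, h1]
  have e2 : θ'⁻¹ • ((MulAut.conj g)⁻¹ • (g * θ y * g⁻¹)) = y := by
    simp only [MulAut.smul_def, MulAut.inv_apply, MulAut.conj_symm_apply]
    have : g⁻¹ * (g * θ y * g⁻¹) * g = θ y := by group
    rw [this]
    exact θ.symm_apply_apply y
  rw [e2]

/-- if `θ` preserves `U¹` then `θ(V¹)` is conjugate to `V¹` under `B¹` -/
theorem exists_conj_V1 [Finite F] {n0 : GL D.Idx F} (hn0 : N0 G1 n0)
    {θ : ↥G1 ≃* ↥G1} (h : Pres θ (U1 D F G1)) :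
    ∃ b ∈ B1 D F G1, Pres (cjA b θ) (V1 D F G1) := by
  have hPB := pres_B1 T h
  obtain ⟨P, hP⟩ : ∃ P, P = bnPair' T := ⟨_, rfl⟩
  obtain ⟨n', hn', hC⟩ := exists_mem_C (P := P) (θ (n0G hn0))
  obtain ⟨b, hb, b', hb', e⟩ := (mem_C_iff P).1 hC
  have hbB : b ∈ B1 D F G1 := by rw [hP] at hb; exact hb
  have hb'B : b' ∈ B1 D F G1 := by rw [hP] at hb'; exact hb'
  have hn'N : (n' : GL D.Idx F) ∈ D.monomialSubgroup F := by
    rw [hP] at hn'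
    exact mem_N1.1 (N'_le_N1 T hn')
  obtain ⟨u₀, h₀, hu₀, hh₀, rfl⟩ := Cfsg.Agent.Helper2.Tri.borel_decomp_G1 T (mem_B1.1 hb'B)
  -- `b' = u₀ h₀ = h₀ u` with `u = h₀⁻¹ u₀ h₀`
  obtain ⟨u, hu⟩ : ∃ u : ↥G1, u = h₀⁻¹ * u₀ * h₀ := ⟨_, rfl⟩
  have huU : u ∈ U1 D F G1 := by
    rw [hu]
    have hh₀B : h₀⁻¹ ∈ B1 D F G1 := Subgroup.inv_mem _ (mem_B1.2 (T.bn.diag_le_borel hh₀))
    have := (Subgroup.mem_normalizer_iff.1 (B1_le_normalizer_U1 T hh₀B) u₀).1 (mem_U1.2 hu₀)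
    rwa [inv_inv] at this
  obtain ⟨n, hn⟩ : ∃ n : ↥G1, n = n' * h₀ := ⟨_, rfl⟩
  have hnN : (n : GL D.Idx F) ∈ D.monomialSubgroup F := by
    rw [hn, Subgroup.coe_mul]
    exact Subgroup.mul_mem _ hn'N (T.bn.diag_le_monomial hh₀)
  have e' : θ (n0G hn0) = b * n * u := by rw [e, hn, hu]; group
  -- Claim 1
  have c1 : ∀ w ∈ U1 D F G1, n * w * n⁻¹ ∈ B1 D F G1 → w = 1 := by
    intro w hw hwB
    have hw' : u⁻¹ * w * u ∈ U1 D F G1 :=
      Subgroup.mul_mem _ (Subgroup.mul_mem _ (Subgroup.inv_mem _ huU) hw) huU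
    obtain ⟨z, hz⟩ : ∃ z, z = θ.symm (u⁻¹ * w * u) := ⟨_, rfl⟩
    have hzU : z ∈ U1 D F G1 := by rw [hz]; exact (h.symm _).2 hw'
    have hθz : θ z = u⁻¹ * w * u := by rw [hz]; exact θ.apply_symm_apply _
    have hvV : n0G hn0 * z * (n0G hn0)⁻¹ ∈ V1 D F G1 := (mem_U1_iff' T hn0 z).1 hzU
    have hθv : θ (n0G hn0 * z * (n0G hn0)⁻¹) ∈ B1 D F G1 := by
      rw [map_mul, map_mul, map_inv, hθz, e']
      have : b * n * u * (u⁻¹ * w * u) * (b * n * u)⁻¹ = b * (n * w * n⁻¹) * b⁻¹ := by group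
      rw [this]
      exact Subgroup.mul_mem _ (Subgroup.mul_mem _ hbB hwB) (Subgroup.inv_mem _ hbB)
    have hvB := (hPB _).1 hθv
    have hv1 := eq_one_of_mem_B1_of_mem_V1 T hvB hvV
    have hz1 : z = 1 := by
      have : z = (n0G hn0)⁻¹ * (n0G hn0 * z * (n0G hn0)⁻¹) * n0G hn0 := by group
      rw [this, hv1]; group
    have : u⁻¹ * w * u = 1 := by rw [← hθz, hz1, map_one]
    have e2 : w = u * (u⁻¹ * w * u) * u⁻¹ := by group
    rw [e2, this]; group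
  -- Claim 3
  have c3 : ∀ w ∈ U1 D F G1, n * w * n⁻¹ ∈ V1 D F G1 := by
    intro w hw
    obtain ⟨a, c, ha, haG, hna, hc, hcG, hnc, ew⟩ := split T hnN n.2 (mem_U1.1 hw) w.2
    have ha1 : (⟨a, haG⟩ : ↥G1) = 1 := by
      apply c1 _ (mem_U1.2 ha)
      rw [mem_B1]
      simp only [Subgroup.coe_mul, Subgroup.coe_inv]
      exact T.bn.posUnipotent_le_borel hna
    have ha1' : a = 1 := congrArg Subtype.val ha1
    rw [mem_V1]
    simp only [Subgroup.coe_mul, Subgroup.coe_inv]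
    rw [ew, ha1', one_mul]
    exact hnc
  refine ⟨b, hbB, ?_⟩
  haveI : Finite ↥G1 := inferInstance
  apply pres_of_maps
  intro v hv
  rw [cjA_apply]
  obtain ⟨z, hz⟩ : ∃ z, z = (n0G hn0)⁻¹ * v * n0G hn0 := ⟨_, rfl⟩
  have hzU : z ∈ U1 D F G1 := by rw [hz]; exact (mem_V1_iff T hn0 v).1 hv
  have hv' : v = n0G hn0 * z * (n0G hn0)⁻¹ := by rw [hz]; group
  have hθzU : θ z ∈ U1 D F G1 := (h z).2 hzU
  rw [hv', map_mul, map_mul, map_inv, e']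
  have : b⁻¹ * (b * n * u * θ z * (b * n * u)⁻¹) * b = n * (u * θ z * u⁻¹) * n⁻¹ := by group
  rw [this]
  exact c3 _ (Subgroup.mul_mem _ (Subgroup.mul_mem _ huU hθzU) (Subgroup.inv_mem _ huU))

/-- every automorphism is, up to an inner automorphism, one preserving `U¹`, `V¹` and `B¹` -/
theorem exists_normalize [Finite F] (p : ℕ) [Fact p.Prime]
    (hSyl : ∃ P : Sylow p ↥G1, (P : Subgroup ↥G1) = U1 D F G1)
    {n0 : GL D.Idx F} (hn0 : N0 G1 n0) (θ : ↥G1 ≃* ↥G1) :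
    ∃ x : ↥G1, Pres (cjA x θ) (U1 D F G1) ∧ Pres (cjA x θ) (V1 D F G1) ∧
      Pres (cjA x θ) (B1 D F G1) := by
  obtain ⟨x, hx⟩ := exists_pres_U1 T p hSyl θ
  obtain ⟨b, hb, hbV⟩ := exists_conj_V1 T hn0 hx
  have hU : Pres (cjA b (cjA x θ)) (U1 D F G1) := pres_cjA hx (B1_le_normalizer_U1 T hb)
  refine ⟨x * b, ?_, ?_, ?_⟩
  · rw [cjA_mul]; exact hU
  · rw [cjA_mul]; exact hbV
  · rw [cjA_mul]; exact pres_B1 T hU

end main

end Cfsg.Agent.Helper2.TwAut
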