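import Mathlib
import Cfsg.Agent.Helper2.TwAut.Norm
import Cfsg.Agent.Helper2.BN.Exchange

/-!
# An automorphism preserving `U¹`, `V¹`, `B¹` permutes the twisted fundamental root subgroups
-/

set_option autoImplicit false
set_option linter.unusedSectionVars false
set_option linter.unusedSimpArgs false
set_option linter.unusedVariables false

namespace Cfsg.Agent.Helper2.TwAut

open Cfsg.Lie Cfsg.Agent.Helper6 Cfsg.Agent.Helper2.Aut Cfsg.Agent.Helper2.BN
open Cfsg.Agent.Helper11.TwCtx Cfsg.Agent.Helper11.TwReach Cfsg.Agent.Helper11.TwBNA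
  Cfsg.Agent.Helper11.TwBNB Cfsg.Agent.Helper11.TwBNC Cfsg.Agent.Helper11.TwBND
  Cfsg.Agent.Helper11.TwTorA Cfsg.Agent.Helper11.TwFix

section abstract

variable {G : Type*} [Group G] (P : Cfsg.BNPair G)

/-- an automorphism preserving `B` permutes the minimal parabolic subgroups -/
theorem exists_perm_parabolic' {θ : G ≃* G} (hPB : Pres θ P.B) {s : G} (hsi : s ∈ P.S) :
    ∃ s' ∈ P.S, ∀ y, θ y ∈ P.parabolic {s'} ↔ y ∈ P.parabolic {s} := by
  obtain ⟨M, hMdef⟩ : ∃ M, M = (P.parabolic {s}).map θ.toMonoidHom := ⟨_, rfl⟩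
  have hmemM : ∀ y, θ y ∈ M ↔ y ∈ P.parabolic {s} := by
    intro y
    rw [hMdef]
    constructor
    · rintro ⟨z, hz, hzy⟩
      have : z = y := θ.injective hzy
      rw [← this]; exact hz
    · intro hy; exact ⟨y, hy, rfl⟩
  have hBM : P.B ≤ M := by
    intro b hb
    obtain ⟨z, rfl⟩ := θ.surjective b
    rw [hmemM]
    exact B_le_parabolic (P := P) _ ((hPB z).1 hb)
  have hM := eq_parabolic_of_le (P := P) M hBM
  have hne : (P.S ∩ (M : Set G)).Nonempty := by
    by_contra hemp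
    rw [Set.not_nonempty_iff_eq_empty] at hemp
    rw [hemp] at hM
    have h1 : θ s ∈ M :=
      (hmemM _).2 (closure_le_parabolic (P := P) _ (Subgroup.subset_closure rfl))
    rw [hM] at h1
    have h2 : θ s ∈ P.B := by
      simpa [Cfsg.BNPair.parabolic] using h1
    exact not_mem_B_of_mem_S (P := P) hsi ((hPB _).1 h2)
  obtain ⟨s₁, hsS, hsM⟩ := hne
  refine ⟨s₁, hsS, fun y => ?_⟩
  have hPsM : P.parabolic {s₁} ≤ M := by
    apply sup_le hBM
    rw [Subgroup.closure_le]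
    intro z hz
    rw [Set.mem_singleton_iff] at hz
    rw [hz]; exact hsM
  constructor
  · intro hy; exact (hmemM y).1 (hPsM hy)
  · have hK : P.parabolic {s} ≤ (P.parabolic {s₁}).comap θ.toMonoidHom := by
      apply sup_le
      · intro b hb
        show θ b ∈ P.parabolic {s₁}
        exact B_le_parabolic (P := P) _ ((hPB b).2 hb)
      · rw [Subgroup.closure_le]
        intro z hz
        rw [Set.mem_singleton_iff] at hz
        subst hz
        show θ z ∈ P.parabolic {s₁}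
        obtain ⟨s', hs'⟩ : ∃ s', θ s' = s₁ := θ.surjective _
        have hs'P : s' ∈ P.parabolic {z} := (hmemM s').1 (by rw [hs']; exact hsM)
        have hs'B : s' ∉ P.B := fun h =>
          not_mem_B_of_mem_S (P := P) hsS (by rw [← hs']; exact (hPB s').2 h)
        have hmem : s' ∈ (P.parabolic {z} : Set G) := hs'P
        rw [parabolic_singleton_coe hsi] at hmem
        rcases hmem with h | h
        · exact absurd h hs'B
        · obtain ⟨b, hb, b', hb', e⟩ := (mem_C_iff P).1 h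
          have e2 : z = b⁻¹ * s' * b'⁻¹ := by rw [e]; group
          rw [e2, map_mul, map_mul, hs']
          exact Subgroup.mul_mem _ (Subgroup.mul_mem _
            (B_le_parabolic (P := P) _ ((hPB _).2 (inv_mem hb)))
            (closure_le_parabolic (P := P) _ (Subgroup.subset_closure rfl)))
            (B_le_parabolic (P := P) _ ((hPB _).2 (inv_mem hb')))
    intro hy
    exact hK hy

end abstract

variable {D : ChevalleyDatum} {F : Type*} [Field F]

section main

variable {X : Ctx D F} {G1 : Subgroup (GL D.Idx F)} {orbs : List (List ℕ)} (T : TwData X G1 orbs)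
include T

/-- a fixed element of `U` is `v x_J(a)` with `v ∈ U¹`, `n_J v n_J⁻¹ ∈ U` -/
theorem fix_decomp' {J : List ℕ} (hJ : J ∈ orbs) {u : GL D.Idx F}
    (hu : u ∈ D.posUnipotent F) (huG : u ∈ G1) :
    ∃ v ∈ D.posUnipotent F, ∃ a : F, v ∈ G1 ∧ AJ X J a ∧ u = v * xP X J a ∧
      nJ X.hB J * v * (nJ (F := F) X.hB J)⁻¹ ∈ D.posUnipotent F := by
  obtain ⟨C, hC, hperm⟩ := T.hcls J hJ
  have hO := T.horb J hJ
  obtain ⟨v, hv, t, hvfix, htfix, e, hsv⟩ := fix_decomp X T.bn T.hsp hO hC hperm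
    (T.hfix (nJ_mem T hJ)) hu (T.hfix huG)
  obtain ⟨a, ha, ea⟩ := exists_xP_of_fix X T.bn T.hsp hO hC hperm htfix
  exact ⟨v, hv, a, T.hUfix ⟨hvfix, hv⟩, ha, by rw [e, ea], hsv⟩

/-- `X_{-J}¹ = V¹ ∩ P_J` -/
theorem mem_XN_iff [Finite F] {n0 : GL D.Idx F} (hn0 : N0 G1 n0) {J : List ℕ} (hJ : J ∈ orbs)
    (y : ↥G1) :
    (∃ a : F, AJ X J a ∧ (y : GL D.Idx F) = xN X J a) ↔
      y ∈ V1 D F G1 ∧ y ∈ (bnPair' T).parabolic {nG T hJ} := by
  obtain ⟨P, hP⟩ : ∃ P, P = bnPair' T := ⟨_, rfl⟩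
  rw [← hP]
  have hBdef : P.B = B1 D F G1 := by rw [hP]; rfl
  have hsi : nG T hJ ∈ P.S := by rw [hP]; exact nG_mem_S T hJ
  have hsiP : nG T hJ ∈ P.parabolic {nG T hJ} :=
    closure_le_parabolic (P := P) _ (Subgroup.subset_closure rfl)
  obtain ⟨Φ, hΦ⟩ := exists_isPhi T hJ
  have hO := T.horb J hJ
  constructor
  · rintro ⟨a, ha, hy⟩
    have hyV : y ∈ V1 D F G1 := by
      rw [mem_V1, hy]; exact xN_mem_negUnipotent X T.bn T.hsp hO a
    refine ⟨hyV, ?_⟩
    -- `x_{-J}(a) = n_J x_J(-a) n_J⁻¹`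
    have e : y = nG T hJ * xT T true J (-a) * (nG T hJ)⁻¹ := by
      apply Subtype.ext
      simp only [Subgroup.coe_mul, Subgroup.coe_inv, xT_true_coe T hJ (AJ_neg X J ha)]
      change (y : GL D.Idx F) = nJ X.hB J * xP X J (-a) * (nJ (F := F) X.hB J)⁻¹
      rw [hy, hΦ.nJ_eq T hJ, ← hΦ.hu, ← hΦ.hl, ← map_inv, ← map_mul, ← map_mul,
        wM_conj_uM (one_ne_zero (α := F))]
      congr 2
      simp
    rw [e]
    refine Subgroup.mul_mem _ (Subgroup.mul_mem _ hsiP ?_) (Subgroup.inv_mem _ hsiP)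
    apply B_le_parabolic (P := P)
    rw [hBdef]
    exact U1_le_B1 T (xT_true_mem_U1 T hJ (AJ_neg X J ha))
  · rintro ⟨hV, hPar⟩
    have hmem : y ∈ (P.parabolic {nG T hJ} : Set ↥G1) := hPar
    rw [parabolic_singleton_coe hsi] at hmem
    rcases hmem with hB | hC
    · have := eq_one_of_mem_B1_of_mem_V1 T (by rw [← hBdef]; exact hB) hV
      obtain ⟨C, hC, hperm⟩ := T.hcls J hJ
      refine ⟨0, AJ_zero X J, ?_⟩
      rw [this, ← hΦ.hl, lM_zero, map_one]
      rfl
    · obtain ⟨b₁, hb₁, b₂, hb₂, e⟩ := (mem_C_iff P).1 hC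
      rw [hBdef] at hb₁ hb₂
      -- `b₂ = u₀ h₀ = h₀ u` with `u = h₀⁻¹ u₀ h₀`
      obtain ⟨u₀, h₀, hu₀, hh₀, rfl⟩ := Cfsg.Agent.Helper2.Tri.borel_decomp_G1 T (mem_B1.1 hb₂)
      have hh₀H : h₀ ∈ H P := by
        rw [hP]
        refine ⟨mem_B1.2 (T.bn.diag_le_borel hh₀), ?_⟩
        exact Subgroup.mem_sup_right (mem_H1.2 hh₀)
      obtain ⟨u, hu⟩ : ∃ u : ↥G1, u = h₀⁻¹ * u₀ * h₀ := ⟨_, rfl⟩
      have huU : u ∈ U1 D F G1 := by
        rw [hu]
        have hh₀B : h₀⁻¹ ∈ B1 D F G1 := Subgroup.inv_mem _ (mem_B1.2 (T.bn.diag_le_borel hh₀))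
        have := (Subgroup.mem_normalizer_iff.1 (B1_le_normalizer_U1 T hh₀B) u₀).1 (mem_U1.2 hu₀)
        rwa [inv_inv] at this
      obtain ⟨v, hv, a, hvG, ha, euv, hsv⟩ := fix_decomp' T hJ (mem_U1.1 huU) u.2
      -- `y = b₃ n_J x_J(a)`
      obtain ⟨b₃, hb₃⟩ : ∃ b₃ : ↥G1, b₃ = b₁ * (nG T hJ * h₀ * (nG T hJ)⁻¹) *
          (nG T hJ * ⟨v, hvG⟩ * (nG T hJ)⁻¹) := ⟨_, rfl⟩
      have hb₃B : b₃ ∈ B1 D F G1 := by
        rw [hb₃]
        refine Subgroup.mul_mem _ (Subgroup.mul_mem _ hb₁ ?_) ?_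
        · rw [← hBdef]
          exact H_le_B P (conj_mem_H P (P.subset hsi) hh₀H)
        · rw [mem_B1]
          simp only [Subgroup.coe_mul, Subgroup.coe_inv]
          exact T.bn.posUnipotent_le_borel hsv
      have eG : y = b₃ * nG T hJ * xT T true J a := by
        have e1 : u = ⟨v, hvG⟩ * xT T true J a := by
          apply Subtype.ext
          simp only [Subgroup.coe_mul, xT_true_coe T hJ ha]
          exact euv
        have e2 : u₀ * h₀ = h₀ * u := by rw [hu]; group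
        rw [e, e2, e1, hb₃]; group
      by_cases ha0 : a = 0
      · exfalso
        subst ha0
        have hx1 : xT T true J (0 : F) = 1 := by
          apply Subtype.ext
          rw [xT_true_coe T hJ ha, ← hΦ.hu, uM_zero, map_one]
          rfl
        rw [hx1, mul_one] at eG
        have hn0N : n0G hn0 ∈ P.N := by
          rw [hP]
          exact N1_le_N' T (mem_N1.2 hn0.mono)
        have hu0 : (n0G hn0)⁻¹ * y * n0G hn0 ∈ P.B := by
          rw [hBdef]; exact U1_le_B1 T ((mem_V1_iff T hn0 y).1 hV)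
        have hmemC : nG T hJ * n0G hn0 ∈ C P (n0G hn0) := by
          rw [mem_C_iff]
          refine ⟨b₃⁻¹, by rw [hBdef]; exact inv_mem hb₃B, (n0G hn0)⁻¹ * y * n0G hn0, hu0, ?_⟩
          rw [eG]; group
        have hC' := C_eq_of_mem P hmemC
        have hmemN : nG T hJ * n0G hn0 ∈ P.N := mul_mem (P.subset hsi) hn0N
        have h1 := bruhat_unique hmemN hn0N hC'
        have e1 : (nG T hJ * n0G hn0)⁻¹ * n0G hn0 = (n0G hn0)⁻¹ * (nG T hJ)⁻¹ * n0G hn0 := by
          group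
        rw [e1] at h1
        have h2 := mem_H_of_conj_mem_H hn0N h1
        have h3 : nG T hJ ∈ H P := by
          have e2 : nG T hJ = ((nG T hJ)⁻¹)⁻¹ := by group
          rw [e2]
          exact inv_mem h2
        exact not_mem_B_of_mem_S (P := P) hsi (H_le_B P h3)
      · -- `a ≠ 0`: `x_{-J}(a⁻¹) = x_J(a) d(-a) n_J x_J(a)`
        have hna : -a ≠ 0 := neg_ne_zero.2 ha0
        have hd : Φ (dM (-a) hna) ∈ D.borelSubgroup F ⊓ G1 := by
          have e0 : dM (-a) hna = (uM a)⁻¹ * lM a⁻¹ * (uM a)⁻¹ * (wM 1)⁻¹ := by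
            rw [lM_inv_eq ha0]; group
          have e1 : Φ (dM (-a) hna) = (xP X J a)⁻¹ * xN X J a⁻¹ * (xP X J a)⁻¹ *
              (nJ (F := F) X.hB J)⁻¹ := by
            rw [e0, map_mul, map_mul, map_mul, map_inv, map_inv, hΦ.hu, hΦ.hl,
              hΦ.nJ_eq T hJ]
          have hG : Φ (dM (-a) hna) ∈ G1 := by
            rw [e1]
            have m1 : xP X J a ∈ G1 := T.hgen_mem J hJ true a ha
            have m2 : xN X J a⁻¹ ∈ G1 := T.hgen_mem J hJ false a⁻¹ (AJ_inv X J ha)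
            exact G1.mul_mem (G1.mul_mem (G1.mul_mem (G1.inv_mem m1) m2) (G1.inv_mem m1))
              (G1.inv_mem (nJ_mem T hJ))
          refine ⟨?_, hG⟩
          -- it is `h_J(orbFun a⁻¹)`
          have hpw := OrbOK.pairwise hO
          have hne : ∀ i ∈ J, orbFun D X.f J a⁻¹ (D.simple i) ≠ 0 := fun i _ =>
            orbFun_ne_zero X T.bn T.hsp hO (inv_ne_zero ha0) _
          have h1 := wn_eq X T.hsp J hO.lt hpw (orbFun D X.f J a⁻¹) hne
          rw [orbFun_inv, inv_inv, ← xN_eq_wn X T.bn T.hsp hO, ← xP_eq_wp X T.bn T.hsp hO] at h1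
          have e2 : Φ (dM (-a) hna) = Cfsg.Agent.Helper11.TwBNA.hJ X.hB J (orbFun D X.f J a⁻¹) := by
            rw [e1, h1]; group
          rw [e2]
          exact T.bn.diag_le_borel (hJ_mem_diagonal X.hB J
            (fun i hi => (X.hAll i (hO.lt i hi)).hS.1) _ hne)
        obtain ⟨hw, hhw⟩ : ∃ hw : ↥G1, (hw : GL D.Idx F) = Φ (dM (-a) hna) := ⟨⟨_, hd.2⟩, rfl⟩
        have hhwB : hw ∈ B1 D F G1 := by rw [mem_B1, hhw]; exact hd.1
        have ev : xT T false J a⁻¹ = (xT T true J a * hw) * nG T hJ * xT T true J a := by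
          apply Subtype.ext
          simp only [Subgroup.coe_mul, xT_true_coe T hJ ha,
            xT_false_coe T hJ (AJ_inv X J ha), hhw]
          change xN X J a⁻¹ = xP X J a * Φ (dM (-a) hna) * nJ X.hB J * xP X J a
          rw [hΦ.nJ_eq T hJ, ← hΦ.hu, ← hΦ.hl, ← map_mul, ← map_mul, ← map_mul, lM_inv_eq ha0]
        have hxB : xT T true J a ∈ B1 D F G1 := U1_le_B1 T (xT_true_mem_U1 T hJ ha)
        have hzV : y * (xT T false J a⁻¹)⁻¹ ∈ V1 D F G1 :=
          Subgroup.mul_mem _ hV (Subgroup.inv_mem _ (xT_false_mem_V1 T hJ (AJ_inv X J ha)))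
        have hzB : y * (xT T false J a⁻¹)⁻¹ ∈ B1 D F G1 := by
          rw [ev, eG]
          have e3 : b₃ * nG T hJ * xT T true J a *
              ((xT T true J a * hw) * nG T hJ * xT T true J a)⁻¹ =
              b₃ * (xT T true J a * hw)⁻¹ := by group
          rw [e3]
          exact mul_mem hb₃B (inv_mem (mul_mem hxB hhwB))
        have hz1 := eq_one_of_mem_B1_of_mem_V1 T hzB hzV
        refine ⟨a⁻¹, AJ_inv X J ha, ?_⟩
        have : y = xT T false J a⁻¹ := by
          have := mul_inv_eq_one.1 hz1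
          exact this
        rw [this, xT_false_coe T hJ (AJ_inv X J ha)]

end main

end Cfsg.Agent.Helper2.TwAut
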