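import Mathlib
import Cfsg.Agent.Helper2.TwAut.Parab
import Cfsg.Agent.Helper2.Aut.Parab2

/-!
# The positive side: an automorphism preserving `U¹`, `V¹` permutes the orbits
-/

set_option autoImplicit false
set_option linter.unusedSectionVars false
set_option linter.unusedSimpArgs false
set_option linter.unusedVariables false

namespace Cfsg.Agent.Helper2.TwAut

open Cfsg.Lie Cfsg.Agent.Helper6 Cfsg.Agent.Helper2.Aut Cfsg.Agent.Helper2.BN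
open Cfsg.Agent.Helper11.TwCtx Cfsg.Agent.Helper11.TwReach Cfsg.Agent.Helper11.TwBNA
  Cfsg.Agent.Helper11.TwBNB Cfsg.Agent.Helper11.TwBNC Cfsg.Agent.Helper11.TwBND
  Cfsg.Agent.Helper11.TwTorA Cfsg.Agent.Helper11.TwFix

variable {D : ChevalleyDatum} {F : Type*} [Field F]

/-- the twisted root subgroup `X_J¹` -/
def XPs (X : Ctx D F) (G1 : Subgroup (GL D.Idx F)) (J : List ℕ) : Set ↥G1 :=
  {y | ∃ a : F, AJ X J a ∧ (y : GL D.Idx F) = xP X J a}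

/-- the twisted root subgroup `X_{-J}¹` -/
def XNs (X : Ctx D F) (G1 : Subgroup (GL D.Idx F)) (J : List ℕ) : Set ↥G1 :=
  {y | ∃ a : F, AJ X J a ∧ (y : GL D.Idx F) = xN X J a}

/-- the longest element exchanges `X_J¹` and `X_{-J}¹` -/
structure Opp (X : Ctx D F) (orbs : List (List ℕ)) (n0 : GL D.Idx F) : Prop where
  pn : ∀ J ∈ orbs, ∀ a, AJ X J a → ∃ a', AJ X J a' ∧ n0 * xP X J a * n0⁻¹ = xN X J a'
  np : ∀ J ∈ orbs, ∀ a', AJ X J a' → ∃ a, AJ X J a ∧ n0⁻¹ * xN X J a' * n0 = xP X J a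

theorem wordU_comm_of_forall (hB : BasicOK D) :
    ∀ (w w' : List (ℕ × F)),
      (∀ p ∈ w, ∀ q ∈ w', Commute (xU hB p.1 p.2) (xU hB q.1 q.2)) →
      Commute (wordU hB w) (wordU hB w') := by
  intro w
  induction w with
  | nil => intro w' _; rw [wordU_nil']; exact Commute.one_left _
  | cons p w ih =>
    intro w' h
    rw [wordU_cons']
    apply Commute.mul_left
    · clear ih
      induction w' with
      | nil => rw [wordU_nil']; exact Commute.one_right _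
      | cons q w' ih' =>
        rw [wordU_cons']
        apply Commute.mul_right
        · exact h p List.mem_cons_self q List.mem_cons_self
        · exact ih' (fun p' hp' q' hq' => h p' hp' q' (List.mem_cons_of_mem _ hq'))
    · exact ih w' (fun p' hp' q' hq' => h p' (List.mem_cons_of_mem _ hp') q' hq')

section main

variable {X : Ctx D F} {G1 : Subgroup (GL D.Idx F)} {orbs : List (List ℕ)} (T : TwData X G1 orbs)
include T

/-- root elements of distinct orbits with opposite signs commute -/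
theorem xP_xN_comm (hdj : ∀ J ∈ orbs, ∀ J' ∈ orbs, J ≠ J' → ∀ i ∈ J, i ∉ J')
    {J J' : List ℕ} (hJ : J ∈ orbs) (hJ' : J' ∈ orbs) (hne : J ≠ J') (a b : F) :
    Commute (xP X J a) (xN X J' b) := by
  unfold xP xN
  apply wordU_comm_of_forall
  intro p hp q hq
  simp only [orbWord, List.mem_map, if_true, Bool.false_eq_true, if_false] at hp hq
  obtain ⟨⟨i, k⟩, hik, rfl⟩ := hp
  obtain ⟨⟨j, l⟩, hjl, rfl⟩ := hq
  have hi : i ∈ J := (List.mem_zipIdx hik).2.2 ▸ List.getElem_mem _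
  have hj : j ∈ J' := (List.mem_zipIdx hjl).2.2 ▸ List.getElem_mem _
  have hij : i ≠ j := fun h => hdj J hJ J' hJ' hne i hi (h ▸ hj)
  have := commute_pos_neg (F := F) X.tab T.bn ((T.horb J hJ).lt i hi) ((T.horb J' hJ').lt j hj)
    hij ((X.f)^[k] a) ((X.f)^[l] b)
  exact congrArg Subtype.val this

theorem mem_XPs_iff_n0 {n0 : GL D.Idx F} (hn0 : N0 G1 n0) (hop : Opp X orbs n0)
    {J : List ℕ} (hJ : J ∈ orbs) (y : ↥G1) :
    y ∈ XPs X G1 J ↔ n0G hn0 * y * (n0G hn0)⁻¹ ∈ XNs X G1 J := by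
  constructor
  · rintro ⟨a, ha, hy⟩
    obtain ⟨a', ha', e⟩ := hop.pn J hJ a ha
    refine ⟨a', ha', ?_⟩
    simp only [Subgroup.coe_mul, Subgroup.coe_inv, n0G]
    rw [hy, e]
  · rintro ⟨a', ha', hy⟩
    obtain ⟨a, ha, e⟩ := hop.np J hJ a' ha'
    refine ⟨a, ha, ?_⟩
    simp only [Subgroup.coe_mul, Subgroup.coe_inv, n0G] at hy
    rw [← e, ← hy]
    group

theorem pres_cjB_U1 {n0 : GL D.Idx F} (hn0 : N0 G1 n0) {θ : ↥G1 ≃* ↥G1}
    (hV : Pres θ (V1 D F G1)) : Pres (cjB (n0G hn0)⁻¹ θ) (U1 D F G1) := by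
  intro y
  rw [cjB_apply, mem_U1_iff T hn0, mem_U1_iff T hn0 y]
  have e : (n0G hn0)⁻¹ * (((n0G hn0)⁻¹)⁻¹ * θ ((n0G hn0)⁻¹ * y * ((n0G hn0)⁻¹)⁻¹) *
      (n0G hn0)⁻¹) * n0G hn0 = θ ((n0G hn0)⁻¹ * y * n0G hn0) := by
    rw [inv_inv]; group
  rw [e, hV]

theorem pres_cjB_V1 {n0 : GL D.Idx F} (hn0 : N0 G1 n0) {θ : ↥G1 ≃* ↥G1}
    (hU : Pres θ (U1 D F G1)) : Pres (cjB (n0G hn0)⁻¹ θ) (V1 D F G1) := by
  intro y
  rw [cjB_apply, mem_V1_iff T hn0, mem_V1_iff T hn0 y]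
  have e : (n0G hn0)⁻¹ * (((n0G hn0)⁻¹)⁻¹ * θ ((n0G hn0)⁻¹ * y * ((n0G hn0)⁻¹)⁻¹) *
      (n0G hn0)⁻¹) * n0G hn0 = θ ((n0G hn0)⁻¹ * y * n0G hn0) := by
    rw [inv_inv]; group
  rw [e, hU]

/-- an automorphism preserving `B¹` and `V¹` permutes the negative twisted root subgroups -/
theorem pres_XNs [Finite F] {n0 : GL D.Idx F} (hn0 : N0 G1 n0)
    {θ : ↥G1 ≃* ↥G1} (hPB : Pres θ (B1 D F G1)) (hPV : Pres θ (V1 D F G1))
    {J : List ℕ} (hJ : J ∈ orbs) :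
    ∃ J' ∈ orbs, ∀ y, θ y ∈ XNs X G1 J' ↔ y ∈ XNs X G1 J := by
  obtain ⟨s', hs', h⟩ := exists_perm_parabolic' (bnPair' T) (θ := θ) hPB (nG_mem_S T hJ)
  obtain ⟨J', hJ', hs'J⟩ := hs'
  have e : s' = nG T hJ' := Subtype.ext hs'J
  rw [e] at h
  refine ⟨J', hJ', fun y => ?_⟩
  show (∃ a : F, AJ X J' a ∧ ((θ y : ↥G1) : GL D.Idx F) = xN X J' a) ↔
    (∃ a : F, AJ X J a ∧ (y : GL D.Idx F) = xN X J a)
  rw [mem_XN_iff T hn0 hJ', mem_XN_iff T hn0 hJ, hPV y, h y]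

/-- an automorphism preserving `U¹` and `V¹` permutes the positive twisted root subgroups -/
theorem pres_XPs [Finite F] {n0 : GL D.Idx F} (hn0 : N0 G1 n0) (hop : Opp X orbs n0)
    {θ : ↥G1 ≃* ↥G1} (hPU : Pres θ (U1 D F G1)) (hPV : Pres θ (V1 D F G1))
    {J : List ℕ} (hJ : J ∈ orbs) :
    ∃ J' ∈ orbs, ∀ y, θ y ∈ XPs X G1 J' ↔ y ∈ XPs X G1 J := by
  have hψU := pres_cjB_U1 T hn0 hPV
  have hψV := pres_cjB_V1 T hn0 hPU
  have hψB := pres_B1 T hψU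
  obtain ⟨J', hJ', hψ⟩ := pres_XNs T hn0 hψB hψV hJ
  refine ⟨J', hJ', fun y => ?_⟩
  have c1 := mem_XPs_iff_n0 T hn0 hop hJ
  have c2 := mem_XPs_iff_n0 T hn0 hop hJ'
  have e2 : n0G hn0 * θ y * (n0G hn0)⁻¹ =
      cjB (n0G hn0)⁻¹ θ (n0G hn0 * y * (n0G hn0)⁻¹) := by
    rw [cjB_apply, inv_inv]
    have : (n0G hn0)⁻¹ * (n0G hn0 * y * (n0G hn0)⁻¹) * n0G hn0 = y := by group
    rw [this]
  rw [c2, e2, hψ, ← c1]

/-- `x_J(1)` and `x_{-J}(1)` do not commute -/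
theorem not_commute_pm' {J : List ℕ} (hJ : J ∈ orbs) :
    xP X J (1 : F) * xN X J 1 ≠ xN X J 1 * xP X J 1 := by
  intro h
  obtain ⟨Φ, hΦ⟩ := exists_isPhi T hJ
  have h1 : Φ (uM 1 * lM 1 * (uM 1)⁻¹) ∈ D.negUnipotent F := by
    rw [map_mul, map_mul, map_inv, hΦ.hu, hΦ.hl, h, mul_assoc, mul_inv_cancel, mul_one]
    exact xN_mem_negUnipotent X T.bn T.hsp (T.horb J hJ) 1
  refine phi_not_mem_V' Φ (D.negUnipotent F) (hΦ.lV T hJ) (hΦ.h0 T hJ) ?_ h1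
  rw [uM_inv]
  simp [uM_val, lM_val, Matrix.SpecialLinearGroup.coe_mul, Matrix.SpecialLinearGroup.coe_one,
    Matrix.mul_apply, Fin.sum_univ_two]

/-- the two permutations agree -/
theorem exists_perm_index [Finite F] {n0 : GL D.Idx F} (hn0 : N0 G1 n0) (hop : Opp X orbs n0)
    (hdj : ∀ J ∈ orbs, ∀ J' ∈ orbs, J ≠ J' → ∀ i ∈ J, i ∉ J')
    {θ : ↥G1 ≃* ↥G1} (hPU : Pres θ (U1 D F G1)) (hPV : Pres θ (V1 D F G1))
    {J : List ℕ} (hJ : J ∈ orbs) :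
    ∃ J' ∈ orbs, (∀ y, θ y ∈ XPs X G1 J' ↔ y ∈ XPs X G1 J) ∧
      (∀ y, θ y ∈ XNs X G1 J' ↔ y ∈ XNs X G1 J) := by
  have hPB := pres_B1 T hPU
  obtain ⟨J₁, hJ₁, h1⟩ := pres_XPs T hn0 hop hPU hPV hJ
  obtain ⟨J₂, hJ₂, h2⟩ := pres_XNs T hn0 hPB hPV hJ
  refine ⟨J₁, hJ₁, h1, ?_⟩
  by_cases hkj : J₁ = J₂
  · rw [hkj]; exact h2
  exfalso
  have m1 : xT T true J 1 ∈ XPs X G1 J := ⟨1, AJ_one X J, xT_true_coe T hJ (AJ_one X J)⟩
  have m2 : xT T false J 1 ∈ XNs X G1 J := ⟨1, AJ_one X J, xT_false_coe T hJ (AJ_one X J)⟩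
  obtain ⟨a, ha, hae⟩ := (h1 _).2 m1
  obtain ⟨b, hb, hbe⟩ := (h2 _).2 m2
  have hcomm := xP_xN_comm T hdj hJ₁ hJ₂ hkj a b
  apply not_commute_pm' T hJ
  have e : θ (xT T true J 1 * xT T false J 1) = θ (xT T false J 1 * xT T true J 1) := by
    rw [map_mul, map_mul]
    apply Subtype.ext
    simp only [Subgroup.coe_mul]
    rw [hae, hbe]
    exact hcomm.eq
  have := congrArg Subtype.val (θ.injective e)
  simpa only [Subgroup.coe_mul, xT_true_coe T hJ (AJ_one X J),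
    xT_false_coe T hJ (AJ_one X J)] using this

end main

end Cfsg.Agent.Helper2.TwAut
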