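import Mathlib
import Cfsg.Agent.Helper2.TwAut.Parab2

/-!
# The functions describing a normalised automorphism on the twisted fundamental root elements
-/

set_option autoImplicit false
set_option linter.unusedSectionVars false
set_option linter.unusedSimpArgs false
set_option linter.unusedVariables false

namespace Cfsg.Agent.Helper2.TwAut

open Cfsg.Lie Cfsg.Agent.Helper6 Cfsg.Agent.Helper2.Aut Cfsg.Agent.Helper2.BN
open Cfsg.Agent.Helper11.TwCtx Cfsg.Agent.Helper11.TwReach Cfsg.Agent.Helper11.TwBNA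
  Cfsg.Agent.Helper11.TwBNB Cfsg.Agent.Helper11.TwBNC Cfsg.Agent.Helper11.TwBND
  Cfsg.Agent.Helper11.TwTorA Cfsg.Agent.Helper11.TwFix

variable {D : ChevalleyDatum} {F : Type*} [Field F]

section basic

variable {X : Ctx D F} {G1 : Subgroup (GL D.Idx F)} {orbs : List (List ℕ)} (T : TwData X G1 orbs)
  {J : List ℕ} (hJ : J ∈ orbs)
include T hJ

theorem xT_true_add {a b : F} (ha : AJ X J a) (hb : AJ X J b) :
    xT T true J (a + b) = xT T true J a * xT T true J b := by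
  obtain ⟨Φ, hΦ⟩ := exists_isPhi T hJ
  apply Subtype.ext
  simp only [Subgroup.coe_mul, xT_true_coe T hJ ha, xT_true_coe T hJ hb,
    xT_true_coe T hJ (AJ_add X J ha hb)]
  rw [← hΦ.hu, ← hΦ.hu, ← hΦ.hu, ← map_mul, uM_add]

theorem xT_false_add {a b : F} (ha : AJ X J a) (hb : AJ X J b) :
    xT T false J (a + b) = xT T false J a * xT T false J b := by
  obtain ⟨Φ, hΦ⟩ := exists_isPhi T hJ
  apply Subtype.ext
  simp only [Subgroup.coe_mul, xT_false_coe T hJ ha, xT_false_coe T hJ hb,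
    xT_false_coe T hJ (AJ_add X J ha hb)]
  rw [← hΦ.hl, ← hΦ.hl, ← hΦ.hl, ← map_mul, lM_add]

theorem xT_true_zero : xT T true J (0 : F) = 1 := by
  obtain ⟨Φ, hΦ⟩ := exists_isPhi T hJ
  apply Subtype.ext
  rw [xT_true_coe T hJ (AJ_zero X J), ← hΦ.hu, uM_zero, map_one]
  rfl

theorem xT_false_zero : xT T false J (0 : F) = 1 := by
  obtain ⟨Φ, hΦ⟩ := exists_isPhi T hJ
  apply Subtype.ext
  rw [xT_false_coe T hJ (AJ_zero X J), ← hΦ.hl, lM_zero, map_one]
  rfl

theorem xT_true_inj {a b : F} (ha : AJ X J a) (hb : AJ X J b)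
    (h : xT T true J a = xT T true J b) : a = b := by
  obtain ⟨Φ, hΦ⟩ := exists_isPhi T hJ
  have := congrArg Subtype.val h
  rw [xT_true_coe T hJ ha, xT_true_coe T hJ hb] at this
  exact xP_inj' T hJ hΦ this

theorem xT_false_inj {a b : F} (ha : AJ X J a) (hb : AJ X J b)
    (h : xT T false J a = xT T false J b) : a = b := by
  obtain ⟨Φ, hΦ⟩ := exists_isPhi T hJ
  have := congrArg Subtype.val h
  rw [xT_false_coe T hJ ha, xT_false_coe T hJ hb] at this
  exact xN_inj T hJ hΦ this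

theorem xT_true_mem_XPs {a : F} (ha : AJ X J a) : xT T true J a ∈ XPs X G1 J :=
  ⟨a, ha, xT_true_coe T hJ ha⟩

theorem xT_false_mem_XNs {a : F} (ha : AJ X J a) : xT T false J a ∈ XNs X G1 J :=
  ⟨a, ha, xT_false_coe T hJ ha⟩

theorem eq_xT_of_mem_XPs {y : ↥G1} (hy : y ∈ XPs X G1 J) :
    ∃ a : F, AJ X J a ∧ y = xT T true J a := by
  obtain ⟨a, ha, e⟩ := hy
  exact ⟨a, ha, Subtype.ext (by rw [e, xT_true_coe T hJ ha])⟩

theorem eq_xT_of_mem_XNs {y : ↥G1} (hy : y ∈ XNs X G1 J) :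
    ∃ a : F, AJ X J a ∧ y = xT T false J a := by
  obtain ⟨a, ha, e⟩ := hy
  exact ⟨a, ha, Subtype.ext (by rw [e, xT_false_coe T hJ ha])⟩

end basic

/-- `θ` maps `x_{±J}(a)` to `x_{±πJ}(f_J a)`, resp. `g_J a` -/
structure Shape {X : Ctx D F} {G1 : Subgroup (GL D.Idx F)} {orbs : List (List ℕ)}
    (T : TwData X G1 orbs) (θ : ↥G1 ≃* ↥G1) (π : List ℕ → List ℕ)
    (fp fn : List ℕ → F → F) : Prop where
  mem : ∀ J ∈ orbs, π J ∈ orbs
  len : ∀ J ∈ orbs, ((π J).length = 1 ↔ J.length = 1)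
  pos : ∀ J ∈ orbs, ∀ a, AJ X J a →
    AJ X J (fp J a) ∧ θ (xT T true J a) = xT T true (π J) (fp J a)
  neg : ∀ J ∈ orbs, ∀ a, AJ X J a →
    AJ X J (fn J a) ∧ θ (xT T false J a) = xT T false (π J) (fn J a)
  surj : ∀ J ∈ orbs, ∀ b, AJ X J b → ∃ a, AJ X J a ∧ fp J a = b

section exists_shape

variable {X : Ctx D F} {G1 : Subgroup (GL D.Idx F)} {orbs : List (List ℕ)} (T : TwData X G1 orbs)
include T

theorem AJ_congr {J J' : List ℕ} (h : J'.length = 1 ↔ J.length = 1) (a : F) :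
    AJ X J' a ↔ AJ X J a := by
  unfold AJ
  rw [h]

/-- an injection of `A_J` into `A_{J'}` forces the two parameter sets to be of the same kind -/
theorem len_of_inj [Finite F] (hf : ∃ x : F, X.f x ≠ x) {J J' : List ℕ}
    (g : F → F) (hg : ∀ a b, AJ X J a → AJ X J b → g a = g b → a = b)
    (hg' : ∀ a, AJ X J a → AJ X J' (g a)) (h1 : J'.length = 1) : J.length = 1 := by
  by_contra h
  obtain ⟨x, hx⟩ := hf
  have hinj : Function.Injective g := fun a b hab =>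
    hg a b (AJ_of_length X J h) (AJ_of_length X J h) hab
  obtain ⟨y, hy⟩ := (Finite.injective_iff_surjective.1 hinj) x
  have := hg' y (AJ_of_length X J h) h1
  rw [hy] at this
  exact hx this

theorem exists_shape [Finite F] (hf : ∃ x : F, X.f x ≠ x)
    {n0 : GL D.Idx F} (hn0 : N0 G1 n0) (hop : Opp X orbs n0)
    (hdj : ∀ J ∈ orbs, ∀ J' ∈ orbs, J ≠ J' → ∀ i ∈ J, i ∉ J')
    {θ : ↥G1 ≃* ↥G1} (hPU : Pres θ (U1 D F G1)) (hPV : Pres θ (V1 D F G1)) :
    ∃ π fp fn, Shape T θ π fp fn := by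
  classical
  have h := fun (J : List ℕ) (hJ : J ∈ orbs) => exists_perm_index T hn0 hop hdj hPU hPV hJ
  choose π' hπ' h1 h2 using h
  obtain ⟨π, hπ⟩ : ∃ π : List ℕ → List ℕ, ∀ J (hJ : J ∈ orbs), π J = π' J hJ :=
    ⟨fun J => if hJ : J ∈ orbs then π' J hJ else J, fun J hJ => dif_pos hJ⟩
  have hπm : ∀ J ∈ orbs, π J ∈ orbs := fun J hJ => by rw [hπ J hJ]; exact hπ' J hJ
  have h1' : ∀ J ∈ orbs, ∀ y, θ y ∈ XPs X G1 (π J) ↔ y ∈ XPs X G1 J := fun J hJ => by
    rw [hπ J hJ]; exact h1 J hJ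
  have h2' : ∀ J ∈ orbs, ∀ y, θ y ∈ XNs X G1 (π J) ↔ y ∈ XNs X G1 J := fun J hJ => by
    rw [hπ J hJ]; exact h2 J hJ
  -- the functions
  have e1 : ∀ J ∈ orbs, ∀ a, AJ X J a → ∃ b, AJ X (π J) b ∧
      θ (xT T true J a) = xT T true (π J) b := fun J hJ a ha =>
    eq_xT_of_mem_XPs T (hπm J hJ) ((h1' J hJ _).2 (xT_true_mem_XPs T hJ ha))
  have e2 : ∀ J ∈ orbs, ∀ a, AJ X J a → ∃ b, AJ X (π J) b ∧
      θ (xT T false J a) = xT T false (π J) b := fun J hJ a ha =>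
    eq_xT_of_mem_XNs T (hπm J hJ) ((h2' J hJ _).2 (xT_false_mem_XNs T hJ ha))
  choose fp' hfpA hfp using e1
  choose fn' hfnA hfn using e2
  obtain ⟨fp, hfpe⟩ : ∃ fp : List ℕ → F → F, ∀ J (hJ : J ∈ orbs) a (ha : AJ X J a),
      fp J a = fp' J hJ a ha :=
    ⟨fun J a => if h : J ∈ orbs ∧ AJ X J a then fp' J h.1 a h.2 else 0,
      fun J hJ a ha => dif_pos ⟨hJ, ha⟩⟩
  obtain ⟨fn, hfne⟩ : ∃ fn : List ℕ → F → F, ∀ J (hJ : J ∈ orbs) a (ha : AJ X J a),
      fn J a = fn' J hJ a ha :=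
    ⟨fun J a => if h : J ∈ orbs ∧ AJ X J a then fn' J h.1 a h.2 else 0,
      fun J hJ a ha => dif_pos ⟨hJ, ha⟩⟩
  -- the kind of the parameter sets is preserved
  have hlen : ∀ J ∈ orbs, ((π J).length = 1 ↔ J.length = 1) := by
    intro J hJ
    constructor
    · intro hl
      refine len_of_inj T hf (J := J) (J' := π J) (fp J) ?_ ?_ hl
      · intro a b ha hb hab
        rw [hfpe J hJ a ha, hfpe J hJ b hb] at hab
        have := hfp J hJ a ha
        rw [hab, ← hfp J hJ b hb] at this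
        exact xT_true_inj T hJ ha hb (θ.injective this)
      · intro a ha
        rw [hfpe J hJ a ha]; exact hfpA J hJ a ha
    · intro hl
      -- the inverse map
      have e3 : ∀ b, AJ X (π J) b → ∃ a, AJ X J a ∧ θ (xT T true J a) = xT T true (π J) b := by
        intro b hb
        obtain ⟨y, hy⟩ := θ.surjective (xT T true (π J) b)
        have hyX : y ∈ XPs X G1 J := (h1' J hJ y).1 (by
          rw [hy]; exact xT_true_mem_XPs T (hπm J hJ) hb)
        obtain ⟨a, ha, rfl⟩ := eq_xT_of_mem_XPs T hJ hyX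
        exact ⟨a, ha, hy⟩
      choose gi hgiA hgi using e3
      obtain ⟨g, hge⟩ : ∃ g : F → F, ∀ b (hb : AJ X (π J) b), g b = gi b hb :=
        ⟨fun b => if h : AJ X (π J) b then gi b h else 0, fun b hb => dif_pos hb⟩
      refine len_of_inj T hf (J := π J) (J' := J) g ?_ ?_ hl
      · intro a b ha hb hab
        rw [hge a ha, hge b hb] at hab
        have := hgi a ha
        rw [hab, hgi b hb] at this
        exact xT_true_inj T (hπm J hJ) ha hb this.symm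
      · intro b hb
        rw [hge b hb]; exact hgiA b hb
  refine ⟨π, fp, fn, hπm, hlen, ?_, ?_, ?_⟩
  · intro J hJ a ha
    rw [hfpe J hJ a ha]
    exact ⟨(AJ_congr T (hlen J hJ) _).1 (hfpA J hJ a ha), hfp J hJ a ha⟩
  · intro J hJ a ha
    rw [hfne J hJ a ha]
    exact ⟨(AJ_congr T (hlen J hJ) _).1 (hfnA J hJ a ha), hfn J hJ a ha⟩
  · intro J hJ b hb
    obtain ⟨y, hy⟩ := θ.surjective (xT T true (π J) b)
    have hb' : AJ X (π J) b := (AJ_congr T (hlen J hJ) _).2 hb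
    have hyX : y ∈ XPs X G1 J := (h1' J hJ y).1 (by
      rw [hy]; exact xT_true_mem_XPs T (hπm J hJ) hb')
    obtain ⟨a, ha, rfl⟩ := eq_xT_of_mem_XPs T hJ hyX
    refine ⟨a, ha, ?_⟩
    have := hfp J hJ a ha
    rw [hy] at this
    rw [hfpe J hJ a ha]
    exact (xT_true_inj T (hπm J hJ) hb' (hfpA J hJ a ha) this).symm

end exists_shape

end Cfsg.Agent.Helper2.TwAut
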