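import Mathlib
import Cfsg.Agent.Helper2.TwAut.Shape

/-!
# Properties of the functions of a shape: additivity, the rank one relation
-/

set_option autoImplicit false
set_option linter.unusedSectionVars false
set_option linter.unusedSimpArgs false
set_option linter.unusedVariables false

namespace Cfsg.Agent.Helper2.TwAut

open Cfsg.Lie Cfsg.Agent.Helper6 Cfsg.Agent.Helper2.Aut Cfsg.Agent.Helper2.BN
open Cfsg.Agent.Helper11.TwCtx Cfsg.Agent.Helper11.TwReach Cfsg.Agent.Helper11.TwBNA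
  Cfsg.Agent.Helper11.TwBNB Cfsg.Agent.Helper11.TwBNC Cfsg.Agent.Helper11.TwBND
  Cfsg.Agent.Helper11.TwTorA Cfsg.Agent.Helper11.TwFix

variable {D : ChevalleyDatum} {F : Type*} [Field F]

namespace Shape

variable {X : Ctx D F} {G1 : Subgroup (GL D.Idx F)} {orbs : List (List ℕ)}
  {T : TwData X G1 orbs} {θ : ↥G1 ≃* ↥G1} {π : List ℕ → List ℕ} {fp fn : List ℕ → F → F}
  (S : Shape T θ π fp fn) {J : List ℕ} (hJ : J ∈ orbs)
include S hJ

theorem AJπ (a : F) : AJ X (π J) a ↔ AJ X J a := AJ_congr T (S.len J hJ) a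

theorem fpA {a : F} (ha : AJ X J a) : AJ X J (fp J a) := (S.pos J hJ a ha).1
theorem fnA {a : F} (ha : AJ X J a) : AJ X J (fn J a) := (S.neg J hJ a ha).1
theorem fpA' {a : F} (ha : AJ X J a) : AJ X (π J) (fp J a) := (S.AJπ hJ _).2 (S.fpA hJ ha)
theorem fnA' {a : F} (ha : AJ X J a) : AJ X (π J) (fn J a) := (S.AJπ hJ _).2 (S.fnA hJ ha)
theorem posE {a : F} (ha : AJ X J a) : θ (xT T true J a) = xT T true (π J) (fp J a) :=
  (S.pos J hJ a ha).2
theorem negE {a : F} (ha : AJ X J a) : θ (xT T false J a) = xT T false (π J) (fn J a) :=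
  (S.neg J hJ a ha).2

theorem fp_add {a b : F} (ha : AJ X J a) (hb : AJ X J b) : fp J (a + b) = fp J a + fp J b := by
  apply xT_true_inj T (S.mem J hJ) (S.fpA' hJ (AJ_add X J ha hb))
    (AJ_add X _ (S.fpA' hJ ha) (S.fpA' hJ hb))
  rw [← S.posE hJ (AJ_add X J ha hb), xT_true_add T hJ ha hb, map_mul, S.posE hJ ha,
    S.posE hJ hb, xT_true_add T (S.mem J hJ) (S.fpA' hJ ha) (S.fpA' hJ hb)]

theorem fn_add {a b : F} (ha : AJ X J a) (hb : AJ X J b) : fn J (a + b) = fn J a + fn J b := by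
  apply xT_false_inj T (S.mem J hJ) (S.fnA' hJ (AJ_add X J ha hb))
    (AJ_add X _ (S.fnA' hJ ha) (S.fnA' hJ hb))
  rw [← S.negE hJ (AJ_add X J ha hb), xT_false_add T hJ ha hb, map_mul, S.negE hJ ha,
    S.negE hJ hb, xT_false_add T (S.mem J hJ) (S.fnA' hJ ha) (S.fnA' hJ hb)]

theorem fp_zero : fp J 0 = 0 := by
  have := S.fp_add hJ (AJ_zero X J) (AJ_zero X J)
  rw [add_zero] at this
  exact left_eq_add.1 this

theorem fn_zero : fn J 0 = 0 := by
  have := S.fn_add hJ (AJ_zero X J) (AJ_zero X J)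
  rw [add_zero] at this
  exact left_eq_add.1 this

theorem fp_neg {a : F} (ha : AJ X J a) : fp J (-a) = - fp J a := by
  have := S.fp_add hJ ha (AJ_neg X J ha)
  rw [add_neg_cancel, S.fp_zero hJ] at this
  exact eq_neg_of_add_eq_zero_right this.symm

theorem fn_neg {a : F} (ha : AJ X J a) : fn J (-a) = - fn J a := by
  have := S.fn_add hJ ha (AJ_neg X J ha)
  rw [add_neg_cancel, S.fn_zero hJ] at this
  exact eq_neg_of_add_eq_zero_right this.symm

theorem fp_sub {a b : F} (ha : AJ X J a) (hb : AJ X J b) : fp J (a - b) = fp J a - fp J b := by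
  rw [sub_eq_add_neg, S.fp_add hJ ha (AJ_neg X J hb), S.fp_neg hJ hb, ← sub_eq_add_neg]

theorem fp_eq_zero {a : F} (ha : AJ X J a) (h : fp J a = 0) : a = 0 := by
  have h1 := S.posE hJ ha
  rw [h, xT_true_zero T (S.mem J hJ)] at h1
  have h2 : xT T true J a = xT T true J 0 := by
    apply θ.injective; rw [h1, xT_true_zero T hJ, map_one]
  exact xT_true_inj T hJ ha (AJ_zero X J) h2

theorem fn_eq_zero {a : F} (ha : AJ X J a) (h : fn J a = 0) : a = 0 := by
  have h1 := S.negE hJ ha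
  rw [h, xT_false_zero T (S.mem J hJ)] at h1
  have h2 : xT T false J a = xT T false J 0 := by
    apply θ.injective; rw [h1, xT_false_zero T hJ, map_one]
  exact xT_false_inj T hJ ha (AJ_zero X J) h2

theorem fp_inj {a b : F} (ha : AJ X J a) (hb : AJ X J b) (h : fp J a = fp J b) : a = b := by
  have : fp J (a - b) = 0 := by rw [S.fp_sub hJ ha hb, h, sub_self]
  exact sub_eq_zero.1 (S.fp_eq_zero hJ (AJ_sub X J ha hb) this)

/-- the rank one relation -/
theorem rank_one {t : F} (ht : t ≠ 0) (hA : AJ X J t) : fp J t * fn J (-t⁻¹) = -1 := by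
  obtain ⟨Φ, hΦ⟩ := exists_isPhi T hJ
  obtain ⟨Φ', hΦ'⟩ := exists_isPhi T (S.mem J hJ)
  have hA1 := AJ_one X J
  have hA2 : AJ X J (-t⁻¹) := AJ_neg X J (AJ_inv X J hA)
  have hA3 : AJ X J (-(t⁻¹) ^ 2 * 1) :=
    AJ_mul X J (AJ_neg X J (AJ_pow X J (AJ_inv X J hA) 2)) hA1
  have h2 : (xT T true J t * xT T false J (-t⁻¹) * xT T true J t) * xT T true J 1 *
      (xT T true J t * xT T false J (-t⁻¹) * xT T true J t)⁻¹ =
      xT T false J (-(t⁻¹) ^ 2 * 1) := by
    apply Subtype.ext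
    simp only [Subgroup.coe_mul, Subgroup.coe_inv, xT_true_coe T hJ hA, xT_true_coe T hJ hA1,
      xT_false_coe T hJ hA2, xT_false_coe T hJ hA3]
    rw [← hΦ.hu, ← hΦ.hu, ← hΦ.hl, ← hΦ.hl, ← map_mul, ← map_mul, ← map_mul, ← map_inv,
      ← map_mul]
    exact congrArg Φ (wM_conj_uM ht 1)
  have h3 := congrArg θ h2
  simp only [map_mul, map_inv, S.posE hJ hA, S.posE hJ hA1, S.negE hJ hA2, S.negE hJ hA3] at h3
  have h4 := congrArg Subtype.val h3
  have hJ' := S.mem J hJ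
  simp only [Subgroup.coe_mul, Subgroup.coe_inv, xT_true_coe T hJ' (S.fpA' hJ hA),
    xT_true_coe T hJ' (S.fpA' hJ hA1), xT_false_coe T hJ' (S.fnA' hJ hA2),
    xT_false_coe T hJ' (S.fnA' hJ hA3)] at h4
  have hf1 : fp J 1 ≠ 0 := fun h => one_ne_zero (S.fp_eq_zero hJ hA1 h)
  apply mul_eq_neg_one_of_conj' Φ' (D.negUnipotent F) (hΦ'.lV T hJ') (hΦ'.h0 T hJ') hf1
  rw [map_mul, map_mul, map_inv, map_mul, map_mul, hΦ'.hu, hΦ'.hl, hΦ'.hu, h4]
  exact xN_mem_negUnipotent X T.bn T.hsp (T.horb _ hJ') _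

end Shape

end Cfsg.Agent.Helper2.TwAut
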