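import Mathlib
import Cfsg.Agent.Helper2.TwAut.Shape2
import Cfsg.Agent.Helper2.Aut.RootChar

/-!
# Diagonal automorphisms of a twisted group
-/

set_option autoImplicit false
set_option linter.unusedSectionVars false
set_option linter.unusedSimpArgs false
set_option linter.unusedVariables false

namespace Cfsg.Agent.Helper2.TwAut

open Cfsg.Lie Cfsg.Agent.Helper6 Cfsg.Agent.Helper2.Aut Cfsg.Agent.Helper2.BN
open Cfsg.Agent.Helper11.TwCtx Cfsg.Agent.Helper11.TwReach Cfsg.Agent.Helper11.TwBNA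
  Cfsg.Agent.Helper11.TwBNB Cfsg.Agent.Helper11.TwBNC Cfsg.Agent.Helper11.TwBND
  Cfsg.Agent.Helper11.TwTorA Cfsg.Agent.Helper11.TwFix

variable {D : ChevalleyDatum} {F : Type*} [Field F]

/-- conjugation by an element normalising a subgroup -/
def conjG1 (G1 : Subgroup (GL D.Idx F)) (d : GL D.Idx F)
    (h1 : ∀ y ∈ G1, d * y * d⁻¹ ∈ G1) (h2 : ∀ y ∈ G1, d⁻¹ * y * d ∈ G1) : ↥G1 ≃* ↥G1 where
  toFun y := ⟨d * y * d⁻¹, h1 y y.2⟩
  invFun y := ⟨d⁻¹ * y * d, h2 y y.2⟩
  left_inv y := by apply Subtype.ext; simp only []; group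
  right_inv y := by apply Subtype.ext; simp only []; group
  map_mul' y z := by apply Subtype.ext; simp only [Subgroup.coe_mul]; group

theorem conjG1_coe (G1 : Subgroup (GL D.Idx F)) (d : GL D.Idx F)
    (h1 : ∀ y ∈ G1, d * y * d⁻¹ ∈ G1) (h2 : ∀ y ∈ G1, d⁻¹ * y * d ∈ G1) (y : ↥G1) :
    ((conjG1 G1 d h1 h2 y : ↥G1) : GL D.Idx F) = d * y * d⁻¹ := rfl

theorem conj_wordU (hB : BasicOK D) {d : GL D.Idx F} {χ : ℕ → Fˣ} (hχ : D.IsRootCharacter χ)
    (hd : (d : Matrix D.Idx D.Idx F) = D.charDiag F χ) :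
    ∀ (w : List (ℕ × F)), (∀ p ∈ w, p.1 < D.nroots) →
      d * wordU hB w * d⁻¹ = wordU hB (w.map fun p => (p.1, ((χ p.1 : Fˣ) : F) * p.2)) := by
  intro w
  induction w with
  | nil => intro _; simp [wordU_nil']
  | cons p w ih =>
    intro hw
    rw [wordU_cons', List.map_cons, wordU_cons']
    have e : d * (xU hB p.1 p.2 * wordU hB w) * d⁻¹ =
        (d * xU hB p.1 p.2 * d⁻¹) * (d * wordU hB w * d⁻¹) := by group
    rw [e, ih (fun q hq => hw q (List.mem_cons_of_mem _ hq)),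
      Cfsg.Agent.Helper11.ChevCharDiag.conj_xU hB hχ hd (hw p List.mem_cons_self)]

theorem orbFun_mul (f : F ≃+* F) (J : List ℕ) (a b : F) (r : ℕ) :
    orbFun D f J (a * b) r = orbFun D f J a r * orbFun D f J b r := by
  match J with
  | [] => simp [orbFun]
  | [_] => simp [orbFun]
  | [i, _] =>
    simp only [orbFun]
    split_ifs <;> simp
  | [i, j, _] =>
    simp only [orbFun]
    split_ifs <;> simp
  | _ :: _ :: _ :: _ :: _ => simp [orbFun]

/-- a root character compatible with the twisting -/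
def DCompat (X : Ctx D F) (orbs : List (List ℕ)) (χ : ℕ → Fˣ) (sJ : List ℕ → F) : Prop :=
  ∀ J ∈ orbs, sJ J ≠ 0 ∧ AJ X J (sJ J) ∧
    ∀ i ∈ J, ((χ (D.simple i) : Fˣ) : F) = orbFun D X.f J (sJ J) (D.simple i)

section main

variable {X : Ctx D F} {G1 : Subgroup (GL D.Idx F)} {orbs : List (List ℕ)} (T : TwData X G1 orbs)
  {χ : ℕ → Fˣ} (hχ : D.IsRootCharacter χ) {sJ : List ℕ → F} (hc : DCompat X orbs χ sJ)
include T hχ hc

theorem dU_conj_xP {J : List ℕ} (hJ : J ∈ orbs) (a : F) :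
    dU D F χ * xP X J a * (dU D F χ)⁻¹ = xP X J (sJ J * a) := by
  have hO := T.horb J hJ
  obtain ⟨C, hC, hperm⟩ := T.hcls J hJ
  obtain ⟨hs0, hsA, hval⟩ := hc J hJ
  rw [xP_eq_wp X T.bn T.hsp hO, xP_eq_wp X T.bn T.hsp hO]
  unfold wp
  rw [conj_wordU X.hB hχ (dU_val χ)]
  · rw [List.map_map, List.map_map, List.map_map]
    congr 1
    apply List.map_congr_left
    intro i hi
    simp only [Function.comp]
    rw [hval i hi, orbFun_mul]
  · intro p hp
    simp only [List.map_map, List.mem_map, Function.comp] at hp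
    obtain ⟨i, hi, rfl⟩ := hp
    exact (X.hAll i (hO.lt i hi)).hS.1

theorem dU_conj_xN {J : List ℕ} (hJ : J ∈ orbs) (a : F) :
    dU D F χ * xN X J a * (dU D F χ)⁻¹ = xN X J ((sJ J)⁻¹ * a) := by
  have hO := T.horb J hJ
  obtain ⟨hs0, hsA, hval⟩ := hc J hJ
  rw [xN_eq_wn X T.bn T.hsp hO, xN_eq_wn X T.bn T.hsp hO]
  unfold wn
  rw [conj_wordU X.hB hχ (dU_val χ)]
  · rw [List.map_map, List.map_map, List.map_map]
    congr 1
    apply List.map_congr_left
    intro i hi
    simp only [Function.comp]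
    have hlt := (X.hAll i (hO.lt i hi)).hS.1
    rw [hχ.1 _ hlt, Units.val_inv_eq_inv_val, hval i hi, orbFun_mul, ← orbFun_inv]
  · intro p hp
    simp only [List.map_map, List.mem_map, Function.comp] at hp
    obtain ⟨i, hi, rfl⟩ := hp
    exact (X.hB.neg _ (X.hAll i (hO.lt i hi)).hS.1).1

theorem dU_conj_mem {y : GL D.Idx F} (hy : y ∈ G1) : dU D F χ * y * (dU D F χ)⁻¹ ∈ G1 := by
  have hle : G1 ≤ G1.comap (MulAut.conj (dU D F χ)).toMonoidHom := by
    apply T.hgen_le
    intro J hJ b a ha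
    obtain ⟨hs0, hsA, hval⟩ := hc J hJ
    rw [Subgroup.mem_comap]
    simp only [MulEquiv.coe_toMonoidHom, MulAut.conj_apply]
    cases b
    · have := dU_conj_xN T hχ hc hJ a
      unfold xN at this
      rw [this]
      exact T.hgen_mem J hJ false _ (AJ_mul X J (AJ_inv X J hsA) ha)
    · have := dU_conj_xP T hχ hc hJ a
      unfold xP at this
      rw [this]
      exact T.hgen_mem J hJ true _ (AJ_mul X J hsA ha)
  have := hle hy
  rw [Subgroup.mem_comap] at this
  simpa only [MulEquiv.coe_toMonoidHom, MulAut.conj_apply] using this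

theorem dU_inv_conj_mem {y : GL D.Idx F} (hy : y ∈ G1) : (dU D F χ)⁻¹ * y * dU D F χ ∈ G1 := by
  have hle : G1 ≤ G1.comap (MulAut.conj (dU D F χ)⁻¹).toMonoidHom := by
    apply T.hgen_le
    intro J hJ b a ha
    obtain ⟨hs0, hsA, hval⟩ := hc J hJ
    rw [Subgroup.mem_comap]
    simp only [MulEquiv.coe_toMonoidHom, MulAut.conj_apply, inv_inv]
    cases b
    · have := dU_conj_xN T hχ hc hJ (sJ J * a)
      rw [← mul_assoc, inv_mul_cancel₀ hs0, one_mul] at this
      have e : (dU D F χ)⁻¹ * wordU X.hB (orbWord D X.f false J a) * dU D F χ =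
          xN X J (sJ J * a) := by
        change (dU D F χ)⁻¹ * xN X J a * dU D F χ = xN X J (sJ J * a)
        rw [← this]; group
      rw [e]
      exact T.hgen_mem J hJ false _ (AJ_mul X J hsA ha)
    · have := dU_conj_xP T hχ hc hJ ((sJ J)⁻¹ * a)
      rw [← mul_assoc, mul_inv_cancel₀ hs0, one_mul] at this
      have e : (dU D F χ)⁻¹ * wordU X.hB (orbWord D X.f true J a) * dU D F χ =
          xP X J ((sJ J)⁻¹ * a) := by
        change (dU D F χ)⁻¹ * xP X J a * dU D F χ = xP X J ((sJ J)⁻¹ * a)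
        rw [← this]; group
      rw [e]
      exact T.hgen_mem J hJ true _ (AJ_mul X J (AJ_inv X J hsA) ha)
  have := hle hy
  rw [Subgroup.mem_comap] at this
  simpa only [MulEquiv.coe_toMonoidHom, MulAut.conj_apply, inv_inv] using this

/-- the diagonal automorphism of `G¹` attached to a compatible root character -/
def dAut : ↥G1 ≃* ↥G1 :=
  conjG1 G1 (dU D F χ) (fun y hy => dU_conj_mem T hχ hc hy)
    (fun y hy => dU_inv_conj_mem T hχ hc hy)

theorem dAut_coe (y : ↥G1) :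
    ((dAut T hχ hc y : ↥G1) : GL D.Idx F) = dU D F χ * y * (dU D F χ)⁻¹ := rfl

theorem dAut_xT_true {J : List ℕ} (hJ : J ∈ orbs) {a : F} (ha : AJ X J a) :
    dAut T hχ hc (xT T true J a) = xT T true J (sJ J * a) := by
  apply Subtype.ext
  rw [dAut_coe, xT_true_coe T hJ ha, xT_true_coe T hJ (AJ_mul X J (hc J hJ).2.1 ha)]
  exact dU_conj_xP T hχ hc hJ a

theorem dAut_xT_false {J : List ℕ} (hJ : J ∈ orbs) {a : F} (ha : AJ X J a) :
    dAut T hχ hc (xT T false J a) = xT T false J ((sJ J)⁻¹ * a) := by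
  apply Subtype.ext
  rw [dAut_coe, xT_false_coe T hJ ha,
    xT_false_coe T hJ (AJ_mul X J (AJ_inv X J (hc J hJ).2.1) ha)]
  exact dU_conj_xN T hχ hc hJ a

end main

end Cfsg.Agent.Helper2.TwAut
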