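import Mathlib
import Cfsg.Agent.Helper2.TwAut.Diag

/-!
# Normalising an automorphism by a diagonal automorphism
-/

set_option autoImplicit false
set_option linter.unusedSectionVars false
set_option linter.unusedSimpArgs false
set_option linter.unusedVariables false

namespace Cfsg.Agent.Helper2.TwAut

open Cfsg.Lie Cfsg.Agent.Helper6 Cfsg.Agent.Helper2.Aut Cfsg.Agent.Helper2.BN
open Cfsg.Agent.Helper11.TwCtx Cfsg.Agent.Helper11.TwReach Cfsg.Agent.Helper11.TwBNA
  Cfsg.Agent.Helper11.TwBNB Cfsg.Agent.Helper11.TwBNC Cfsg.Agent.Helper11.TwBND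
  Cfsg.Agent.Helper11.TwTorA Cfsg.Agent.Helper11.TwFix

variable {D : ChevalleyDatum} {F : Type*} [Field F]

/-- a unit with the given non-zero value -/
noncomputable def mkU (v : F) : Fˣ := by
  classical
  exact if h : v = 0 then 1 else Units.mk0 v h

theorem mkU_val {v : F} (h : v ≠ 0) : ((mkU v : Fˣ) : F) = v := by
  unfold mkU
  rw [dif_neg h]
  rfl

/-- the values on the fundamental roots of the character attached to orbit parameters -/
noncomputable def valOf (X : Ctx D F) (orbs : List (List ℕ)) (sJ : List ℕ → F) (i : ℕ) : F :=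
  match orbs.find? (fun J => decide (i ∈ J)) with
  | some J => orbFun D X.f J (sJ J) (D.simple i)
  | none => 1

theorem valOf_eq (X : Ctx D F) {orbs : List (List ℕ)}
    (hdj : ∀ J ∈ orbs, ∀ J' ∈ orbs, J ≠ J' → ∀ i ∈ J, i ∉ J') (sJ : List ℕ → F)
    {J : List ℕ} (hJ : J ∈ orbs) {i : ℕ} (hi : i ∈ J) :
    valOf X orbs sJ i = orbFun D X.f J (sJ J) (D.simple i) := by
  unfold valOf
  cases hfind : orbs.find? (fun J => decide (i ∈ J)) with
  | none =>
    rw [List.find?_eq_none] at hfind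
    have := hfind J hJ
    simp [hi] at this
  | some J' =>
    have h1 := List.find?_some hfind
    have h2 := List.mem_of_find?_eq_some hfind
    simp only [decide_eq_true_eq] at h1
    have : J = J' := by
      by_contra hne
      exact hdj J hJ J' h2 hne i hi h1
    rw [this]

section main

variable {X : Ctx D F} {G1 : Subgroup (GL D.Idx F)} {orbs : List (List ℕ)} (T : TwData X G1 orbs)
include T

/-- every family of orbit parameters comes from a compatible root character -/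
theorem exists_compat (hdj : ∀ J ∈ orbs, ∀ J' ∈ orbs, J ≠ J' → ∀ i ∈ J, i ∉ J')
    (sJ : List ℕ → F) (h : ∀ J ∈ orbs, sJ J ≠ 0 ∧ AJ X J (sJ J)) :
    ∃ χ : ℕ → Fˣ, D.IsRootCharacter χ ∧ DCompat X orbs χ sJ := by
  refine ⟨rootChar D (fun i => mkU (valOf X orbs sJ i)),
    isRootCharacter_rootChar X.tab T.bn _, fun J hJ => ⟨(h J hJ).1, (h J hJ).2, fun i hi => ?_⟩⟩
  have hO := T.horb J hJ
  rw [rootChar_simple X.tab T.bn _ (hO.lt i hi), valOf_eq X hdj sJ hJ hi]
  exact mkU_val (orbFun_ne_zero X T.bn T.hsp hO (h J hJ).1 _)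

/-- after composing with a diagonal automorphism, `f_J(1) = 1` -/
theorem exists_diag_normalize (hdj : ∀ J ∈ orbs, ∀ J' ∈ orbs, J ≠ J' → ∀ i ∈ J, i ∉ J')
    {θ : ↥G1 ≃* ↥G1} {π : List ℕ → List ℕ} {fp fn : List ℕ → F → F}
    (S : Shape T θ π fp fn) :
    ∃ (χ : ℕ → Fˣ) (sJ : List ℕ → F) (hχ : D.IsRootCharacter χ) (hc : DCompat X orbs χ sJ)
      (fp' fn' : List ℕ → F → F), Shape T ((dAut T hχ hc).trans θ) π fp' fn' ∧
        ∀ J ∈ orbs, fp' J 1 = 1 := by
  classical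
  have h0 : ∀ J, ∃ s : F, J ∈ orbs → (s ≠ 0 ∧ AJ X J s ∧ fp J s = 1) := by
    intro J
    by_cases hJ : J ∈ orbs
    · obtain ⟨a, ha, e⟩ := S.surj J hJ 1 (AJ_one X J)
      refine ⟨a, fun _ => ⟨?_, ha, e⟩⟩
      intro h
      rw [h, S.fp_zero hJ] at e
      exact zero_ne_one e
    · exact ⟨1, fun h => absurd h hJ⟩
  choose sJ hsJ using h0
  obtain ⟨χ, hχ, hc⟩ := exists_compat T hdj sJ (fun J hJ => ⟨(hsJ J hJ).1, (hsJ J hJ).2.1⟩)
  refine ⟨χ, sJ, hχ, hc, fun J a => fp J (sJ J * a), fun J a => fn J ((sJ J)⁻¹ * a), ?_, ?_⟩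
  · refine ⟨S.mem, S.len, ?_, ?_, ?_⟩
    · intro J hJ a ha
      have hA := AJ_mul X J (hsJ J hJ).2.1 ha
      refine ⟨S.fpA hJ hA, ?_⟩
      show θ (dAut T hχ hc (xT T true J a)) = _
      rw [dAut_xT_true T hχ hc hJ ha, S.posE hJ hA]
    · intro J hJ a ha
      have hA := AJ_mul X J (AJ_inv X J (hsJ J hJ).2.1) ha
      refine ⟨S.fnA hJ hA, ?_⟩
      show θ (dAut T hχ hc (xT T false J a)) = _
      rw [dAut_xT_false T hχ hc hJ ha, S.negE hJ hA]
    · intro J hJ b hb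
      obtain ⟨a, ha, e⟩ := S.surj J hJ b hb
      refine ⟨(sJ J)⁻¹ * a, AJ_mul X J (AJ_inv X J (hsJ J hJ).2.1) ha, ?_⟩
      show fp J (sJ J * ((sJ J)⁻¹ * a)) = b
      rw [← mul_assoc, mul_inv_cancel₀ (hsJ J hJ).1, one_mul, e]
  · intro J hJ
    show fp J (sJ J * 1) = 1
    rw [mul_one]; exact (hsJ J hJ).2.2

end main

end Cfsg.Agent.Helper2.TwAut
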