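import Mathlib
import Cfsg.Agent.Helper2.TwAut.DiagNorm
import Cfsg.Agent.Helper2.Aut.Weyl

/-!
# The permutation of the orbits attached to a normalised automorphism preserves the Weyl relations
-/

set_option autoImplicit false
set_option linter.unusedSectionVars false
set_option linter.unusedSimpArgs false
set_option linter.unusedVariables false

namespace Cfsg.Agent.Helper2.TwAut

open Cfsg.Lie Cfsg.Agent.Helper6 Cfsg.Agent.Helper2.Aut Cfsg.Agent.Helper2.BN
open Cfsg.Agent.Helper11.TwCtx Cfsg.Agent.Helper11.TwReach Cfsg.Agent.Helper11.TwBNA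
  Cfsg.Agent.Helper11.TwBNB Cfsg.Agent.Helper11.TwBNC Cfsg.Agent.Helper11.TwBND
  Cfsg.Agent.Helper11.TwTorA Cfsg.Agent.Helper11.TwFix

variable {D : ChevalleyDatum} {F : Type*} [Field F]

section basic

variable {X : Ctx D F} {G1 : Subgroup (GL D.Idx F)} {orbs : List (List ℕ)} (T : TwData X G1 orbs)
include T

theorem nG_eq {J : List ℕ} (hJ : J ∈ orbs) :
    nG T hJ = xT T true J 1 * xT T false J (-1) * xT T true J 1 := by
  apply Subtype.ext
  simp only [Subgroup.coe_mul, xT_true_coe T hJ (AJ_one X J),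
    xT_false_coe T hJ (AJ_neg X J (AJ_one X J))]
  exact nJ_eq X T.hsp (T.horb J hJ)

/-- `(n_J n_{J'})² ∈ B¹` is read off from the tables -/
theorem pair_sq_mem_B1_iff {J J' : List ℕ} (hJ : J ∈ orbs) (hJ' : J' ∈ orbs) :
    (nG T hJ * nG T hJ') ^ 2 ∈ B1 D F G1 ↔ fixPos D ((J ++ J') ++ (J ++ J')) = true := by
  have hw : ∀ i ∈ (J ++ J') ++ (J ++ J'), i < D.rank := by
    intro i hi
    simp only [List.mem_append] at hi
    rcases hi with (hi | hi) | (hi | hi)
    · exact (T.horb J hJ).lt i hi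
    · exact (T.horb J' hJ').lt i hi
    · exact (T.horb J hJ).lt i hi
    · exact (T.horb J' hJ').lt i hi
  rw [mem_B1, ← nW_mem_borel_iff X.tab T.bn hw, nW_append, nW_append]
  have e : ((((nG T hJ * nG T hJ') ^ 2 : ↥G1)) : GL D.Idx F) =
      (nW X.hB F J * nW X.hB F J') * (nW X.hB F J * nW X.hB F J') := by
    rw [pow_two]; rfl
  rw [e]

end basic

namespace Shape

variable {X : Ctx D F} {G1 : Subgroup (GL D.Idx F)} {orbs : List (List ℕ)}
  {T : TwData X G1 orbs} {θ : ↥G1 ≃* ↥G1} {π : List ℕ → List ℕ} {fp fn : List ℕ → F → F}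
  (S : Shape T θ π fp fn) (h1 : ∀ J ∈ orbs, fp J 1 = 1) {J : List ℕ} (hJ : J ∈ orbs)
include S h1 hJ

theorem fn_neg_one : fn J (-1) = -1 := by
  have := S.rank_one hJ one_ne_zero (AJ_one X J)
  rw [h1 J hJ, one_mul, inv_one] at this
  exact this

/-- `θ` maps `n_J` to `n_{πJ}` -/
theorem map_nG : θ (nG T hJ) = nG T (S.mem J hJ) := by
  rw [nG_eq T hJ, nG_eq T (S.mem J hJ), map_mul, map_mul, S.posE hJ (AJ_one X J),
    S.negE hJ (AJ_neg X J (AJ_one X J)), h1 J hJ, S.fn_neg_one h1 hJ]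

omit hJ in
/-- the permutation preserves the relations `(n_J n_{J'})² ∈ B¹` -/
theorem ord_eq (hPB : Pres θ (B1 D F G1)) {J J' : List ℕ} (hJ : J ∈ orbs) (hJ' : J' ∈ orbs) :
    fixPos D ((π J ++ π J') ++ (π J ++ π J')) = fixPos D ((J ++ J') ++ (J ++ J')) := by
  rw [Bool.eq_iff_iff, ← pair_sq_mem_B1_iff T hJ hJ',
    ← pair_sq_mem_B1_iff T (S.mem J hJ) (S.mem J' hJ'), ← S.map_nG h1 hJ, ← S.map_nG h1 hJ',
    ← map_mul, ← map_pow, hPB]

end Shape

end Cfsg.Agent.Helper2.TwAut
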