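import Mathlib
import Cfsg.Agent.Helper2.TwAut.Weyl
import Cfsg.Agent.Helper2.Aut.Edge

/-!
# The functions of a normalised automorphism are field automorphisms
-/

set_option autoImplicit false
set_option linter.unusedSectionVars false
set_option linter.unusedSimpArgs false
set_option linter.unusedVariables false

namespace Cfsg.Agent.Helper2.TwAut

open Cfsg.Lie Cfsg.Agent.Helper6 Cfsg.Agent.Helper2.Aut Cfsg.Agent.Helper2.BN
open Cfsg.Agent.Helper11.TwCtx Cfsg.Agent.Helper11.TwReach Cfsg.Agent.Helper11.TwBNA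
  Cfsg.Agent.Helper11.TwBNB Cfsg.Agent.Helper11.TwBNC Cfsg.Agent.Helper11.TwBND
  Cfsg.Agent.Helper11.TwTorA Cfsg.Agent.Helper11.TwFix

variable {D : ChevalleyDatum} {F : Type*} [Field F]

/-- an additive map of a subfield of a finite field which is multiplicative on squares is
multiplicative -/
theorem mul_of_sq_rel (A : F → Prop) (hA1 : A 1)
    (hAadd : ∀ a b, A a → A b → A (a + b)) (hAsub : ∀ a b, A a → A b → A (a - b))
    (hAmul : ∀ a b, A a → A b → A (a * b)) (hAhalf : ∀ a, A a → A (a / 2))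
    (hsqrt : (2 : F) = 0 → ∀ a, A a → ∃ r, A r ∧ a = r * r)
    {φ : F → F} (hadd : ∀ a b, A a → A b → φ (a + b) = φ a + φ b)
    (hsq : ∀ c t, A c → A t → φ (c ^ 2 * t) = φ (c ^ 2) * φ t) :
    ∀ a b, A a → A b → φ (a * b) = φ a * φ b := by
  have hA0 : A 0 := by have := hAsub 1 1 hA1 hA1; rwa [sub_self] at this
  have h0 : φ 0 = 0 := by
    have := hadd 0 0 hA0 hA0
    rw [add_zero] at this
    exact left_eq_add.1 this
  have hAneg : ∀ a, A a → A (-a) := by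
    intro a ha
    have := hAsub 0 a hA0 ha
    rwa [zero_sub] at this
  have hneg : ∀ a, A a → φ (-a) = - φ a := by
    intro a ha
    have := hadd a (-a) ha (hAneg a ha)
    rw [add_neg_cancel, h0] at this
    exact eq_neg_of_add_eq_zero_right this.symm
  have hsub : ∀ a b, A a → A b → φ (a - b) = φ a - φ b := by
    intro a b ha hb
    rw [sub_eq_add_neg, hadd a (-b) ha (hAneg b hb), hneg b hb, ← sub_eq_add_neg]
  intro a b ha hb
  by_cases h2 : (2 : F) = 0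
  · obtain ⟨r, hr, e⟩ := hsqrt h2 a ha
    rw [e, ← pow_two, hsq r b hr hb]
  · have hp := hAhalf _ (hAadd a 1 ha hA1)
    have hm := hAhalf _ (hAsub a 1 ha hA1)
    have e : a = ((a + 1) / 2) ^ 2 - ((a - 1) / 2) ^ 2 := by field_simp; ring
    have e1 : a * b = ((a + 1) / 2) ^ 2 * b - ((a - 1) / 2) ^ 2 * b := by
      rw [← sub_mul, ← e]
    have hp2 : A (((a + 1) / 2) ^ 2) := by rw [pow_two]; exact hAmul _ _ hp hp
    have hm2 : A (((a - 1) / 2) ^ 2) := by rw [pow_two]; exact hAmul _ _ hm hm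
    rw [e1, hsub _ _ (hAmul _ _ hp2 hb) (hAmul _ _ hm2 hb), hsq _ _ hp hb, hsq _ _ hm hb,
      ← sub_mul, ← hsub _ _ hp2 hm2, ← e]

/-- square roots in the parameter sets, in characteristic two -/
theorem AJ_sqrt [Finite F] (X : Ctx D F) (J : List ℕ) (h2 : (2 : F) = 0) (a : F)
    (ha : AJ X J a) : ∃ r, AJ X J r ∧ a = r * r := by
  have hchar : ringChar F = 2 := by
    have hd : ringChar F ∣ 2 := ringChar.dvd (by exact_mod_cast h2)
    rcases (Nat.dvd_prime Nat.prime_two).1 hd with h | h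
    · exact absurd h (CharP.ringChar_ne_one)
    · exact h
  obtain ⟨r, hr⟩ := FiniteField.isSquare_of_char_two hchar a
  refine ⟨r, fun hl => ?_, hr⟩
  have h1 := ha hl
  rw [hr, map_mul] at h1
  have h3 : (X.f r - r) ^ 2 = 0 := by
    have : (X.f r - r) ^ 2 = X.f r * X.f r - r * r - 2 * (X.f r * r - r * r) := by ring
    rw [this, h1, h2]; ring
  have h4 : X.f r - r = 0 := by
    rw [pow_two] at h3
    exact mul_self_eq_zero.1 h3
  exact sub_eq_zero.1 h4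

/-- the torus element `h_J(s)` of `G¹` -/
noncomputable def hT {X : Ctx D F} {G1 : Subgroup (GL D.Idx F)} {orbs : List (List ℕ)}
    (T : TwData X G1 orbs) (J : List ℕ) (s : F) : ↥G1 :=
  xT T true J s * xT T false J (-s⁻¹) * xT T true J s *
    (xT T true J 1 * xT T false J (-1) * xT T true J 1)⁻¹

section hT

variable {X : Ctx D F} {G1 : Subgroup (GL D.Idx F)} {orbs : List (List ℕ)} (T : TwData X G1 orbs)
  {J : List ℕ} (hJ : J ∈ orbs)
include T hJ

theorem hT_coe {s : F} (hA : AJ X J s) :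
    ((hT T J s : ↥G1) : GL D.Idx F) = xP X J s * xN X J (-s⁻¹) * xP X J s *
      (xP X J 1 * xN X J (-1) * xP X J 1)⁻¹ := by
  unfold hT
  simp only [Subgroup.coe_mul, Subgroup.coe_inv, xT_true_coe T hJ hA,
    xT_true_coe T hJ (AJ_one X J), xT_false_coe T hJ (AJ_neg X J (AJ_inv X J hA)),
    xT_false_coe T hJ (AJ_neg X J (AJ_one X J))]

theorem hT_coe_phi {Φ : Matrix.SpecialLinearGroup (Fin 2) F →* GL D.Idx F} (hΦ : IsPhi X J Φ)
    {s : F} (hs : s ≠ 0) (hA : AJ X J s) :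
    ((hT T J s : ↥G1) : GL D.Idx F) = Φ (dM s hs) := by
  rw [hT_coe T hJ hA, dM_eq hs, map_mul, map_inv]
  unfold wM
  simp only [map_mul, hΦ.hu, hΦ.hl, inv_one]

theorem hT_conj_self {s : F} (hs : s ≠ 0) (hA : AJ X J s) {u : F} (hu : AJ X J u) :
    hT T J s * xT T true J u * (hT T J s)⁻¹ = xT T true J (s ^ 2 * u) := by
  obtain ⟨Φ, hΦ⟩ := exists_isPhi T hJ
  apply Subtype.ext
  simp only [Subgroup.coe_mul, Subgroup.coe_inv]
  rw [hT_coe_phi T hJ hΦ hs hA, xT_true_coe T hJ hu,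
    xT_true_coe T hJ (AJ_mul X J (AJ_pow X J hA 2) hu), ← hΦ.hu, ← hΦ.hu, ← map_inv, ← map_mul,
    ← map_mul, dM_conj_uM]

end hT

namespace Shape

variable {X : Ctx D F} {G1 : Subgroup (GL D.Idx F)} {orbs : List (List ℕ)}
  {T : TwData X G1 orbs} {θ : ↥G1 ≃* ↥G1} {π : List ℕ → List ℕ} {fp fn : List ℕ → F → F}
  (S : Shape T θ π fp fn) (h1 : ∀ J ∈ orbs, fp J 1 = 1) (hπ : ∀ J ∈ orbs, π J = J)
  {J : List ℕ} (hJ : J ∈ orbs)
include S hJ

theorem fp_ne_zero {t : F} (ht : t ≠ 0) (hA : AJ X J t) : fp J t ≠ 0 :=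
  fun h => ht (S.fp_eq_zero hJ hA h)

theorem fn_neg_inv {t : F} (ht : t ≠ 0) (hA : AJ X J t) : fn J (-t⁻¹) = -(fp J t)⁻¹ := by
  have h := S.rank_one hJ ht hA
  have hf := S.fp_ne_zero hJ ht hA
  have : fn J (-t⁻¹) = (fp J t)⁻¹ * (fp J t * fn J (-t⁻¹)) := by
    rw [← mul_assoc, inv_mul_cancel₀ hf, one_mul]
  rw [this, h]; ring

include hπ

theorem posE' {a : F} (ha : AJ X J a) : θ (xT T true J a) = xT T true J (fp J a) := by
  rw [S.posE hJ ha, hπ J hJ]

theorem negE' {a : F} (ha : AJ X J a) : θ (xT T false J a) = xT T false J (fn J a) := by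
  rw [S.negE hJ ha, hπ J hJ]

include h1

theorem map_hT {s : F} (hs : s ≠ 0) (hA : AJ X J s) : θ (hT T J s) = hT T J (fp J s) := by
  unfold hT
  simp only [map_mul, map_inv]
  rw [S.posE' hπ hJ hA, S.negE' hπ hJ (AJ_neg X J (AJ_inv X J hA)), S.posE' hπ hJ (AJ_one X J),
    S.negE' hπ hJ (AJ_neg X J (AJ_one X J)), h1 J hJ, S.fn_neg_one h1 hJ, S.fn_neg_inv hJ hs hA]

theorem fp_sq {s u : F} (hs : AJ X J s) (hu : AJ X J u) :
    fp J (s ^ 2 * u) = (fp J s) ^ 2 * fp J u := by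
  by_cases h0 : s = 0
  · rw [h0, S.fp_zero hJ]
    simp [S.fp_zero hJ]
  · have h := congrArg θ (hT_conj_self T hJ h0 hs hu)
    rw [map_mul, map_mul, map_inv, S.map_hT h1 hπ hJ h0 hs, S.posE' hπ hJ hu,
      S.posE' hπ hJ (AJ_mul X J (AJ_pow X J hs 2) hu),
      hT_conj_self T hJ (S.fp_ne_zero hJ h0 hs) (S.fpA hJ hs) (S.fpA hJ hu)] at h
    exact (xT_true_inj T hJ (AJ_mul X J (AJ_pow X J (S.fpA hJ hs) 2) (S.fpA hJ hu))
      (S.fpA hJ (AJ_mul X J (AJ_pow X J hs 2) hu)) h).symm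

theorem fp_mul [Finite F] {a b : F} (ha : AJ X J a) (hb : AJ X J b) :
    fp J (a * b) = fp J a * fp J b := by
  refine mul_of_sq_rel (AJ X J) (AJ_one X J) (fun a b => AJ_add X J) (fun a b => AJ_sub X J)
    (fun a b => AJ_mul X J) (fun a ha => AJ_div X J ha (AJ_two X J))
    (fun h2 a ha => AJ_sqrt X J h2 a ha) (fun a b ha hb => S.fp_add hJ ha hb) ?_ a b ha hb
  intro c t hc ht
  rw [S.fp_sq h1 hπ hJ hc ht]
  have := S.fp_sq h1 hπ hJ hc (AJ_one X J)
  rw [mul_one, h1 J hJ, mul_one] at this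
  rw [this]

theorem fp_inv [Finite F] {c : F} (hc : c ≠ 0) (hA : AJ X J c) : fp J c⁻¹ = (fp J c)⁻¹ := by
  apply eq_inv_of_mul_eq_one_left
  rw [← S.fp_mul h1 hπ hJ (AJ_inv X J hA) hA, inv_mul_cancel₀ hc, h1 J hJ]

theorem fn_eq_fp [Finite F] {s : F} (hA : AJ X J s) : fn J s = fp J s := by
  by_cases hs : s = 0
  · rw [hs, S.fp_zero hJ, S.fn_zero hJ]
  · have ht : -s⁻¹ ≠ 0 := neg_ne_zero.2 (inv_ne_zero hs)
    have hAt : AJ X J (-s⁻¹) := AJ_neg X J (AJ_inv X J hA)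
    have h := S.fn_neg_inv hJ ht hAt
    have e : -(-s⁻¹)⁻¹ = s := by rw [inv_neg, inv_inv, neg_neg]
    rw [e, S.fp_neg hJ (AJ_inv X J hA), S.fp_inv h1 hπ hJ hs hA, inv_neg, inv_inv, neg_neg] at h
    exact h

end Shape

end Cfsg.Agent.Helper2.TwAut
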