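import Mathlib
import Cfsg.Agent.Helper2.TwAut.Field
import Cfsg.Agent.Helper2.Aut.Norm

/-!
# Comparing the field automorphisms attached to different orbits
-/

set_option autoImplicit false
set_option linter.unusedSectionVars false
set_option linter.unusedSimpArgs false
set_option linter.unusedVariables false

namespace Cfsg.Agent.Helper2.TwAut

open Cfsg.Lie Cfsg.Agent.Helper6 Cfsg.Agent.Helper2.Aut Cfsg.Agent.Helper2.BN
open Cfsg.Agent.Helper11.TwCtx Cfsg.Agent.Helper11.TwReach Cfsg.Agent.Helper11.TwBNA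
  Cfsg.Agent.Helper11.TwBNB Cfsg.Agent.Helper11.TwBNC Cfsg.Agent.Helper11.TwBND
  Cfsg.Agent.Helper11.TwTorA Cfsg.Agent.Helper11.TwFix

variable {D : ChevalleyDatum} {F : Type*} [Field F]

theorem hW_conj_xU (hD : IsTabulated D) (hB : BasicOK D) {i : ℕ} (hi : i < D.rank) {s : ℕ}
    (hs : s < D.nroots) {c : F} (hc : c ≠ 0) (t : F) :
    wordU hB (D.hWord (D.simple i) c) * xU hB s t * (wordU hB (D.hWord (D.simple i) c))⁻¹ =
      xU hB s (c ^ (D.cartan i s) * t) := by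
  rw [mul_inv_eq_iff_eq_mul]
  apply Units.ext
  simp only [Units.val_mul, xU_val, wordU_val]
  exact Cfsg.Agent.S1032.result D hD i s hi hs c hc t

theorem hJ_conj_xU (hD : IsTabulated D) (hB : BasicOK D) :
    ∀ (J : List ℕ), (∀ i ∈ J, i < D.rank) → ∀ (a : ℕ → F), (∀ i ∈ J, a (D.simple i) ≠ 0) →
      ∀ {r : ℕ} (hr : r < D.nroots) (t : F),
        Cfsg.Agent.Helper11.TwBNA.hJ hB J a * xU hB r t * (Cfsg.Agent.Helper11.TwBNA.hJ hB J a)⁻¹ =
          xU hB r ((J.map fun i => (-(a (D.simple i))⁻¹) ^ D.cartan i r).prod * t) := by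
  intro J
  induction J with
  | nil => intro _ a _ r hr t; simp [Cfsg.Agent.Helper11.TwBNA.hJ]
  | cons i J ih =>
    intro hlt a ha r hr t
    have hi := hlt i List.mem_cons_self
    have hlt' : ∀ j ∈ J, j < D.rank := fun j hj => hlt j (List.mem_cons_of_mem _ hj)
    have ha' : ∀ j ∈ J, a (D.simple j) ≠ 0 := fun j hj => ha j (List.mem_cons_of_mem _ hj)
    have hc : -(a (D.simple i))⁻¹ ≠ 0 := neg_ne_zero.2 (inv_ne_zero (ha i List.mem_cons_self))
    rw [hJ_cons, List.map_cons, List.prod_cons]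
    have e : ∀ (W H x : GL D.Idx F), (W * H) * x * (W * H)⁻¹ = W * (H * x * H⁻¹) * W⁻¹ := by
      intro W H x; group
    rw [e, ih hlt' a ha' hr t, hW_conj_xU hD hB hi hr hc, mul_assoc]

theorem conj_wordU_of (hB : BasicOK D) {d : GL D.Idx F} {m : ℕ → F}
    (h : ∀ r < D.nroots, ∀ t : F, d * xU hB r t * d⁻¹ = xU hB r (m r * t)) :
    ∀ (w : List (ℕ × F)), (∀ p ∈ w, p.1 < D.nroots) →
      d * wordU hB w * d⁻¹ = wordU hB (w.map fun p => (p.1, m p.1 * p.2)) := by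
  intro w
  induction w with
  | nil => intro _; simp [wordU_nil']
  | cons p w ih =>
    intro hw
    rw [wordU_cons', List.map_cons, wordU_cons']
    have e : d * (xU hB p.1 p.2 * wordU hB w) * d⁻¹ =
        (d * xU hB p.1 p.2 * d⁻¹) * (d * wordU hB w * d⁻¹) := by group
    rw [e, ih (fun q hq => hw q (List.mem_cons_of_mem _ hq)), h _ (hw p List.mem_cons_self)]

/-- the orbit `J` acts on the orbit `J'` through `s ↦ s⁻¹` -/
def EdgeOK (X : Ctx D F) (J J' : List ℕ) : Prop :=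
  (J'.length = 1 → J.length = 1) ∧ ∀ s : F, s ≠ 0 → AJ X J s → ∀ j ∈ J',
    (J.map fun i => (-(orbFun D X.f J (-s⁻¹) (D.simple i))⁻¹) ^ D.cartan i (D.simple j)).prod =
      orbFun D X.f J' s⁻¹ (D.simple j)

section hT

variable {X : Ctx D F} {G1 : Subgroup (GL D.Idx F)} {orbs : List (List ℕ)} (T : TwData X G1 orbs)
  {J : List ℕ} (hJ : J ∈ orbs)
include T hJ

theorem xP_neg (s : F) : xP X J (-s) = (xP X J s)⁻¹ := by
  obtain ⟨Φ, hΦ⟩ := exists_isPhi T hJ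
  rw [eq_inv_iff_mul_eq_one, ← hΦ.hu, ← hΦ.hu, ← map_mul, uM_add, neg_add_cancel, uM_zero, map_one]

theorem hT_coe_hJ {s : F} (hs : s ≠ 0) (hA : AJ X J s) :
    ((hT T J s : ↥G1) : GL D.Idx F) = Cfsg.Agent.Helper11.TwBNA.hJ X.hB J (orbFun D X.f J (-s⁻¹)) := by
  have hO := T.horb J hJ
  have hne : -s⁻¹ ≠ 0 := neg_ne_zero.2 (inv_ne_zero hs)
  have h := wn_eq X T.hsp J hO.lt (OrbOK.pairwise hO) (orbFun D X.f J (-s⁻¹))
    (fun i _ => orbFun_ne_zero X T.bn T.hsp hO hne _)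
  rw [orbFun_inv, ← xN_eq_wn X T.bn T.hsp hO, inv_neg, inv_inv, ← xP_eq_wp X T.bn T.hsp hO,
    xP_neg T hJ, Cfsg.Agent.Helper11.TwReach.nJ_eq X T.hsp hO] at h
  rw [hT_coe T hJ hA]
  change _ = _ at h
  have e : ∀ (N P H n : GL D.Idx F), N = P⁻¹ * H * n * P⁻¹ → H = P * N * P * n⁻¹ := by
    intro N P H n h; rw [h]; group
  exact (e _ _ _ _ h).symm

theorem hT_conj_edge {J' : List ℕ} (hJ' : J' ∈ orbs) (hE : EdgeOK X J J') {s : F} (hs : s ≠ 0)
    (hA : AJ X J s) {u : F} (hu : AJ X J' u) :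
    hT T J s * xT T true J' u * (hT T J s)⁻¹ = xT T true J' (s⁻¹ * u) := by
  have hO := T.horb J hJ
  have hO' := T.horb J' hJ'
  have hne : -s⁻¹ ≠ 0 := neg_ne_zero.2 (inv_ne_zero hs)
  have hA' : AJ X J' (s⁻¹ * u) := AJ_mul X J' (fun hl => (AJ_inv X J hA) (hE.1 hl)) hu
  apply Subtype.ext
  simp only [Subgroup.coe_mul, Subgroup.coe_inv]
  rw [hT_coe_hJ T hJ hs hA, xT_true_coe T hJ' hu, xT_true_coe T hJ' hA',
    xP_eq_wp X T.bn T.hsp hO', xP_eq_wp X T.bn T.hsp hO']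
  unfold wp
  rw [conj_wordU_of X.hB (fun r hr t => hJ_conj_xU X.tab X.hB J hO.lt _
    (fun i _ => orbFun_ne_zero X T.bn T.hsp hO hne _) hr t)]
  · rw [List.map_map, List.map_map, List.map_map]
    congr 1
    apply List.map_congr_left
    intro j hj
    simp only [Function.comp]
    rw [hE.2 s hs hA j hj, orbFun_mul]
  · intro p hp
    simp only [List.map_map, List.mem_map, Function.comp] at hp
    obtain ⟨i, hi, rfl⟩ := hp
    exact (X.hAll i (hO'.lt i hi)).hS.1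

end hT

namespace Shape

variable {X : Ctx D F} {G1 : Subgroup (GL D.Idx F)} {orbs : List (List ℕ)}
  {T : TwData X G1 orbs} {θ : ↥G1 ≃* ↥G1} {π : List ℕ → List ℕ} {fp fn : List ℕ → F → F}
  (S : Shape T θ π fp fn) (h1 : ∀ J ∈ orbs, fp J 1 = 1) (hπ : ∀ J ∈ orbs, π J = J)
include S h1 hπ

/-- along an edge, the functions agree -/
theorem fp_edge [Finite F] {J J' : List ℕ} (hJ : J ∈ orbs) (hJ' : J' ∈ orbs) (hE : EdgeOK X J J')
    {s : F} (hA : AJ X J s) : fp J' s = fp J s := by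
  by_cases hs : s = 0
  · rw [hs, S.fp_zero hJ, S.fp_zero hJ']
  have hA' : AJ X J' s := fun hl => hA (hE.1 hl)
  have hA1 : AJ X J' (s⁻¹ * 1) := AJ_mul X J' (AJ_inv X J' hA') (AJ_one X J')
  have h := congrArg θ (hT_conj_edge T hJ hJ' hE hs hA (AJ_one X J'))
  rw [map_mul, map_mul, map_inv, S.map_hT h1 hπ hJ hs hA, S.posE' hπ hJ' (AJ_one X J'),
    S.posE' hπ hJ' hA1, h1 J' hJ',
    hT_conj_edge T hJ hJ' hE (S.fp_ne_zero hJ hs hA) (S.fpA hJ hA) (AJ_one X J')] at h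
  have hfA : AJ X J' ((fp J s)⁻¹ * 1) :=
    AJ_mul X J' (fun hl => (AJ_inv X J (S.fpA hJ hA)) (hE.1 hl)) (AJ_one X J')
  have h2 := xT_true_inj T hJ' hfA (S.fpA hJ' hA1) h
  rw [mul_one, mul_one, S.fp_inv h1 hπ hJ' hs hA'] at h2
  exact (inv_injective h2).symm

end Shape

end Cfsg.Agent.Helper2.TwAut
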