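import Mathlib
import Cfsg.Agent.Helper2.TwAut.Edge
import Cfsg.Agent.S1080

/-!
# Field automorphisms of a twisted group, and extensionality on the generators
-/

set_option autoImplicit false
set_option linter.unusedSectionVars false
set_option linter.unusedSimpArgs false
set_option linter.unusedVariables false

namespace Cfsg.Agent.Helper2.TwAut

open Cfsg.Lie Cfsg.Agent.Helper6 Cfsg.Agent.Helper2.Aut Cfsg.Agent.Helper2.BN
open Cfsg.Agent.Helper11.TwCtx Cfsg.Agent.Helper11.TwReach Cfsg.Agent.Helper11.TwBNA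
  Cfsg.Agent.Helper11.TwBNB Cfsg.Agent.Helper11.TwBNC Cfsg.Agent.Helper11.TwBND
  Cfsg.Agent.Helper11.TwTorA Cfsg.Agent.Helper11.TwFix
open Cfsg.Agent.S1080 (glMap glMap_val x_map glMap_symm_apply)

variable {D : ChevalleyDatum} {F : Type*} [Field F]

theorem glMap_xU (hB : BasicOK D) (τ : F ≃+* F) (r : ℕ) (t : F) :
    glMap D τ (xU hB r t) = xU hB r (τ t) := by
  apply Units.ext
  rw [glMap_val, xU_val, xU_val, x_map]

theorem glMap_wordU (hB : BasicOK D) (τ : F ≃+* F) (w : List (ℕ × F)) :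
    glMap D τ (wordU hB w) = wordU hB (w.map fun p => (p.1, τ p.2)) := by
  induction w with
  | nil => simp [wordU_nil']
  | cons p w ih => rw [wordU_cons', map_mul, ih, glMap_xU, List.map_cons, wordU_cons']

theorem iterate_comm {f τ : F ≃+* F} (h : ∀ x, τ (f x) = f (τ x)) (k : ℕ) (a : F) :
    τ (f^[k] a) = f^[k] (τ a) := by
  induction k generalizing a with
  | zero => rfl
  | succ k ih => rw [Function.iterate_succ_apply, ih, h, ← Function.iterate_succ_apply]

theorem glMap_orbWord (X : Ctx D F) {τ : F ≃+* F} (hτ : ∀ x, τ (X.f x) = X.f (τ x)) (b : Bool)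
    (J : List ℕ) (a : F) :
    glMap D τ (wordU X.hB (orbWord D X.f b J a)) = wordU X.hB (orbWord D X.f b J (τ a)) := by
  rw [glMap_wordU]
  congr 1
  unfold orbWord
  rw [List.map_map]
  apply List.map_congr_left
  intro p _
  simp only [Function.comp]
  rw [iterate_comm hτ]

theorem glMap_posUnipotent (hB : BasicOK D) (τ : F ≃+* F) {u : GL D.Idx F}
    (hu : u ∈ D.posUnipotent F) : glMap D τ u ∈ D.posUnipotent F := by
  unfold ChevalleyDatum.posUnipotent at hu ⊢
  induction hu using Subgroup.closure_induction with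
  | mem y hy =>
    obtain ⟨r, t, hr, hy⟩ := hy
    have : y = xU hB r t := Units.ext (by rw [hy, xU_val])
    rw [this, glMap_xU]
    exact Subgroup.subset_closure ⟨r, _, hr, rfl⟩
  | one => rw [map_one]; exact Subgroup.one_mem _
  | mul a b _ _ iha ihb => rw [map_mul]; exact Subgroup.mul_mem _ iha ihb
  | inv a _ iha => rw [map_inv]; exact Subgroup.inv_mem _ iha

theorem glMap_negUnipotent (hB : BasicOK D) (τ : F ≃+* F) {u : GL D.Idx F}
    (hu : u ∈ D.negUnipotent F) : glMap D τ u ∈ D.negUnipotent F := by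
  unfold ChevalleyDatum.negUnipotent at hu ⊢
  induction hu using Subgroup.closure_induction with
  | mem y hy =>
    obtain ⟨r, t, hr, hy⟩ := hy
    have : y = xU hB r t := Units.ext (by rw [hy, xU_val])
    rw [this, glMap_xU]
    exact Subgroup.subset_closure ⟨r, _, hr, rfl⟩
  | one => rw [map_one]; exact Subgroup.one_mem _
  | mul a b _ _ iha ihb => rw [map_mul]; exact Subgroup.mul_mem _ iha ihb
  | inv a _ iha => rw [map_inv]; exact Subgroup.inv_mem _ iha

theorem glMap_symm_apply' (τ : F ≃+* F) (g : GL D.Idx F) :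
    glMap D τ (glMap D τ.symm g) = g := by
  have := glMap_symm_apply D τ.symm g
  rwa [RingEquiv.symm_symm] at this

section main

variable {X : Ctx D F} {G1 : Subgroup (GL D.Idx F)} {orbs : List (List ℕ)} (T : TwData X G1 orbs)
include T

theorem xT_coe {J : List ℕ} (hJ : J ∈ orbs) (b : Bool) {a : F} (ha : AJ X J a) :
    ((xT T b J a : ↥G1) : GL D.Idx F) = wordU X.hB (orbWord D X.f b J a) := by
  unfold xT
  rw [dif_pos ⟨hJ, ha⟩]

theorem glMap_mem {τ : F ≃+* F} (hτ : ∀ x, τ (X.f x) = X.f (τ x)) {y : GL D.Idx F}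
    (hy : y ∈ G1) : glMap D τ y ∈ G1 := by
  have hle : G1 ≤ G1.comap (glMap D τ).toMonoidHom := by
    apply T.hgen_le
    intro J hJ b a ha
    rw [Subgroup.mem_comap]
    simp only [MulEquiv.coe_toMonoidHom]
    rw [glMap_orbWord X hτ]
    exact T.hgen_mem J hJ b _ (fun hl => by rw [← hτ, ha hl])
  exact hle hy

theorem comm_symm {τ : F ≃+* F} (hτ : ∀ x, τ (X.f x) = X.f (τ x)) (x : F) :
    τ.symm (X.f x) = X.f (τ.symm x) := by
  apply τ.injective
  rw [RingEquiv.apply_symm_apply, hτ, RingEquiv.apply_symm_apply]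

/-- the field automorphism of `G¹` attached to an automorphism of `F` -/
noncomputable def fieldA (hcomm : ∀ (τ : F ≃+* F) (x : F), τ (X.f x) = X.f (τ x)) (τ : F ≃+* F) :
    ↥G1 ≃* ↥G1 where
  toFun y := ⟨glMap D τ y, glMap_mem T (hcomm τ) y.2⟩
  invFun y := ⟨glMap D τ.symm y, glMap_mem T (hcomm τ.symm) y.2⟩
  left_inv y := by
    apply Subtype.ext
    show glMap D τ.symm (glMap D τ (y : GL D.Idx F)) = y
    exact glMap_symm_apply D τ y
  right_inv y := by
    apply Subtype.ext
    show glMap D τ (glMap D τ.symm (y : GL D.Idx F)) = y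
    exact glMap_symm_apply' τ (y : GL D.Idx F)
  map_mul' y z := Subtype.ext (by simp only [Subgroup.coe_mul, map_mul])

variable (hcomm : ∀ (τ : F ≃+* F) (x : F), τ (X.f x) = X.f (τ x))

theorem fieldA_coe (τ : F ≃+* F) (y : ↥G1) :
    ((fieldA T hcomm τ y : ↥G1) : GL D.Idx F) = glMap D τ y := rfl

theorem fieldA_xT {J : List ℕ} (hJ : J ∈ orbs) (b : Bool) {a : F} (ha : AJ X J a) (τ : F ≃+* F) :
    fieldA T hcomm τ (xT T b J a) = xT T b J (τ a) := by
  have ha' : AJ X J (τ a) := fun hl => by rw [← hcomm, ha hl]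
  apply Subtype.ext
  rw [fieldA_coe, xT_coe T hJ b ha, xT_coe T hJ b ha', glMap_orbWord X (hcomm τ)]

theorem pres_fieldA_U1 (τ : F ≃+* F) : Pres (fieldA T hcomm τ) (U1 D F G1) := by
  intro y
  rw [mem_U1, mem_U1, fieldA_coe]
  constructor
  · intro h
    have := glMap_posUnipotent X.hB τ.symm h
    rwa [glMap_symm_apply] at this
  · exact glMap_posUnipotent X.hB τ

theorem pres_fieldA_V1 (τ : F ≃+* F) : Pres (fieldA T hcomm τ) (V1 D F G1) := by
  intro y
  rw [mem_V1, mem_V1, fieldA_coe]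
  constructor
  · intro h
    have := glMap_negUnipotent X.hB τ.symm h
    rwa [glMap_symm_apply] at this
  · exact glMap_negUnipotent X.hB τ

omit hcomm in
/-- two automorphisms agreeing on the twisted root elements are equal -/
theorem ext_xT {φ ψ : ↥G1 ≃* ↥G1}
    (h : ∀ J ∈ orbs, ∀ (b : Bool) (a : F), AJ X J a → φ (xT T b J a) = ψ (xT T b J a)) :
    φ = ψ := by
  have hle : G1 ≤ (MonoidHom.eqLocus φ.toMonoidHom ψ.toMonoidHom).map G1.subtype := by
    apply T.hgen_le
    intro J hJ b a ha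
    refine ⟨xT T b J a, h J hJ b a ha, xT_coe T hJ b ha⟩
  refine MulEquiv.ext fun y => ?_
  obtain ⟨z, hz, e⟩ := hle y.2
  have : z = y := Subtype.ext e
  rw [← this]
  exact hz

end main

end Cfsg.Agent.Helper2.TwAut
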