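import Mathlib
import Cfsg.Agent.Helper2.TwAut.FieldAut

/-!
# Compatible root characters and the twisted torus parameters
-/

set_option autoImplicit false
set_option linter.unusedSectionVars false
set_option linter.unusedSimpArgs false
set_option linter.unusedVariables false

namespace Cfsg.Agent.Helper2.TwAut

open Cfsg.Lie Cfsg.Agent.Helper6 Cfsg.Agent.Helper2.Aut Cfsg.Agent.Helper2.BN
open Cfsg.Agent.Helper11.TwCtx Cfsg.Agent.Helper11.TwReach Cfsg.Agent.Helper11.TwBNA
  Cfsg.Agent.Helper11.TwBNB Cfsg.Agent.Helper11.TwBNC Cfsg.Agent.Helper11.TwBND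
  Cfsg.Agent.Helper11.TwTorA Cfsg.Agent.Helper11.TwFix

variable {D : ChevalleyDatum} {F : Type*} [Field F]

theorem orbFun_rho (X : Ctx D F) {J : List ℕ} (hO : OrbOK D X.ρ J)
    (hfJ : 2 ≤ J.length → ∀ x, (X.f)^[J.length] x = x) {a : F} (ha : AJ X J a) :
    ∀ i ∈ J, X.ρ i ∈ J ∧
      orbFun D X.f J a (D.simple (X.ρ i)) = X.f (orbFun D X.f J a (D.simple i)) := by
  match J, hO with
  | [i], hO =>
    obtain ⟨hi, hρ⟩ := hO
    intro k hk
    rw [List.mem_singleton] at hk
    subst hk
    rw [hρ]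
    refine ⟨List.mem_singleton.2 rfl, ?_⟩
    simp only [orbFun]
    exact (ha rfl).symm
  | [i, j], hO =>
    obtain ⟨hi, hj, hρi, hρj, hso⟩ := hO
    have hne : D.simple j ≠ D.simple i := Ne.symm hso.1
    have h2 : X.f (X.f a) = a := hfJ (by simp) a
    intro k hk
    simp only [List.mem_cons, List.not_mem_nil, or_false] at hk
    rcases hk with rfl | rfl
    · rw [hρi]
      exact ⟨by simp, by simp [orbFun, hne]⟩
    · rw [hρj]
      exact ⟨by simp, by simp [orbFun, hne, h2]⟩
  | [i, j, k], hO =>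
    obtain ⟨hi, hj, hk, hρi, hρj, hρk, hij, hik, hjk⟩ := hO
    have n1 : D.simple j ≠ D.simple i := Ne.symm hij.1
    have n2 : D.simple k ≠ D.simple i := Ne.symm hik.1
    have n3 : D.simple k ≠ D.simple j := Ne.symm hjk.1
    have h3 : X.f (X.f (X.f a)) = a := hfJ (by simp) a
    intro m hm
    simp only [List.mem_cons, List.not_mem_nil, or_false] at hm
    rcases hm with rfl | rfl | rfl
    · rw [hρi]
      exact ⟨by simp, by simp [orbFun, n1]⟩
    · rw [hρj]
      exact ⟨by simp, by simp [orbFun, n1, n2, n3]⟩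
    · rw [hρk]
      exact ⟨by simp, by simp [orbFun, n2, n3, h3]⟩

theorem twT_eq_of_rho (X : Ctx D F) {c : Fin D.rank → Fˣ}
    (h : ∀ i : Fin D.rank, c (rhoFin X i) = fU X (c i)) : twT X c = c := by
  funext j
  obtain ⟨i, rfl⟩ := (rhoFin X).surjective j
  rw [twT_rho, h]

section main

variable {X : Ctx D F} {G1 : Subgroup (GL D.Idx F)} {orbs : List (List ℕ)} (T : TwData X G1 orbs)
include T

theorem iterate_orbit {J : List ℕ} (hJ : J ∈ orbs) (h2 : 2 ≤ J.length) (x : F) :
    (X.f)^[J.length] x = x := by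
  obtain ⟨C, hC, hperm⟩ := T.hcls J hJ
  have hl : C.length = J.length := by rw [hperm.length_eq, List.length_map]
  rw [← hl]
  exact X.hford C hC (by rw [hl]; exact h2) x

/-- every family of orbit parameters comes from a parameter of the twisted torus -/
theorem exists_T0_compat (hdj : ∀ J ∈ orbs, ∀ J' ∈ orbs, J ≠ J' → ∀ i ∈ J, i ∉ J')
    (hcov : ∀ i < D.rank, ∃ J ∈ orbs, i ∈ J)
    (sJ : List ℕ → F) (h : ∀ J ∈ orbs, sJ J ≠ 0 ∧ AJ X J (sJ J)) :
    ∃ c : Fin D.rank → Fˣ, twT X c = c ∧ DCompat X orbs (rootChar D (ext1 c)) sJ := by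
  refine ⟨fun i => mkU (valOf X orbs sJ i.val), ?_, fun J hJ => ⟨(h J hJ).1, (h J hJ).2, fun i hi => ?_⟩⟩
  · apply twT_eq_of_rho
    intro i
    obtain ⟨J, hJ, hiJ⟩ := hcov i.val i.isLt
    have hO := T.horb J hJ
    obtain ⟨hρJ, hρv⟩ := orbFun_rho X hO (fun h2 x => iterate_orbit T hJ h2 x) (h J hJ).2 i.val hiJ
    have hv1 := valOf_eq X hdj sJ hJ hiJ
    have hv2 := valOf_eq X hdj sJ hJ hρJ
    have hn1 : valOf X orbs sJ i.val ≠ 0 := by
      rw [hv1]; exact orbFun_ne_zero X T.bn T.hsp hO (h J hJ).1 _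
    have hn2 : valOf X orbs sJ (X.ρ i.val) ≠ 0 := by
      rw [hv2]; exact orbFun_ne_zero X T.bn T.hsp hO (h J hJ).1 _
    apply Units.ext
    rw [fU_val]
    show ((mkU (valOf X orbs sJ (rhoFin X i).val) : Fˣ) : F) = _
    rw [rhoFin_val, mkU_val hn2, mkU_val hn1, hv2, hv1, hρv]
  · have hO := T.horb J hJ
    have hlt := hO.lt i hi
    rw [rootChar_simple X.tab T.bn _ hlt]
    have : ext1 (fun i : Fin D.rank => mkU (valOf X orbs sJ i.val)) i =
        mkU (valOf X orbs sJ i) := by
      unfold ext1; rw [dif_pos hlt]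
    rw [this, ← valOf_eq X hdj sJ hJ hi]
    apply mkU_val
    rw [valOf_eq X hdj sJ hJ hi]
    exact orbFun_ne_zero X T.bn T.hsp hO (h J hJ).1 _

/-- a parameter of the twisted torus gives a compatible root character -/
theorem compat_of_T0 {c : Fin D.rank → Fˣ} (hc : twT X c = c) :
    DCompat X orbs (rootChar D (ext1 c)) (fun J => ((ext1 c (J.headD 0) : Fˣ) : F)) := by
  intro J hJ
  refine ⟨Units.ne_zero _, ?_, ?_⟩
  · intro hl
    match J, T.horb J hJ, hl with
    | [i], hO, _ =>
      obtain ⟨hi, hρ⟩ := hO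
      have := ext1_rho X hc hi
      rw [hρ] at this
      exact this.symm
  · intro m hm
    have hO := T.horb J hJ
    rw [rootChar_simple X.tab T.bn _ (hO.lt m hm)]
    match J, hO, hm with
    | [i], hO, hm =>
      rw [List.mem_singleton] at hm
      subst hm
      simp [orbFun]
    | [i, j], hO, hm =>
      obtain ⟨hi, hj, hρi, hρj, hso⟩ := hO
      have hne : D.simple j ≠ D.simple i := Ne.symm hso.1
      have h1 := ext1_rho X hc hi
      rw [hρi] at h1
      simp only [List.mem_cons, List.not_mem_nil, or_false] at hm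
      rcases hm with rfl | rfl
      · simp [orbFun]
      · simp [orbFun, hne, h1]
    | [i, j, k], hO, hm =>
      obtain ⟨hi, hj, hk, hρi, hρj, hρk, hij, hik, hjk⟩ := hO
      have n1 : D.simple j ≠ D.simple i := Ne.symm hij.1
      have n2 : D.simple k ≠ D.simple i := Ne.symm hik.1
      have n3 : D.simple k ≠ D.simple j := Ne.symm hjk.1
      have h1 := ext1_rho X hc hi
      rw [hρi] at h1
      have h2 := ext1_rho X hc hj
      rw [hρj] at h2
      simp only [List.mem_cons, List.not_mem_nil, or_false] at hm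
      rcases hm with rfl | rfl | rfl
      · simp [orbFun]
      · simp [orbFun, n1, h1]
      · simp [orbFun, n2, n3, h2, h1]

end main

end Cfsg.Agent.Helper2.TwAut
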