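import Mathlib
import Cfsg.Agent.Helper2.TwAut.Compat

/-!
# The structure of the normalised automorphisms of a twisted group
-/

set_option autoImplicit false
set_option linter.unusedSectionVars false
set_option linter.unusedSimpArgs false
set_option linter.unusedVariables false

namespace Cfsg.Agent.Helper2.TwAut

open Cfsg.Lie Cfsg.Agent.Helper6 Cfsg.Agent.Helper2.Aut Cfsg.Agent.Helper2.BN
open Cfsg.Agent.Helper11.TwCtx Cfsg.Agent.Helper11.TwReach Cfsg.Agent.Helper11.TwBNA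
  Cfsg.Agent.Helper11.TwBNB Cfsg.Agent.Helper11.TwBNC Cfsg.Agent.Helper11.TwBND
  Cfsg.Agent.Helper11.TwTorA Cfsg.Agent.Helper11.TwFix

variable {D : ChevalleyDatum} {F : Type*} [Field F]

/-- conjugation by `ĥ(χ)` maps `V` into `V` -/
theorem conj_negUnipotent_mem' (hB : BasicOK D) {g : GL D.Idx F} {χ : ℕ → Fˣ}
    (hχ : D.IsRootCharacter χ) (hg : (g : Matrix D.Idx D.Idx F) = D.charDiag F χ)
    {u : GL D.Idx F} (hu : u ∈ D.negUnipotent F) : g * u * g⁻¹ ∈ D.negUnipotent F := by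
  unfold ChevalleyDatum.negUnipotent at hu ⊢
  induction hu using Subgroup.closure_induction with
  | mem y hy =>
    obtain ⟨r, t, hr, hy⟩ := hy
    have : y = xU hB r t := Units.ext (by rw [hy, xU_val])
    rw [this, Cfsg.Agent.Helper11.ChevCharDiag.conj_xU hB hχ hg hr.1 t]
    exact Subgroup.subset_closure ⟨r, _, hr, rfl⟩
  | one => simp
  | mul a b _ _ iha ihb =>
    have : g * (a * b) * g⁻¹ = (g * a * g⁻¹) * (g * b * g⁻¹) := by group
    rw [this]; exact Subgroup.mul_mem _ iha ihb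
  | inv a _ iha =>
    have : g * a⁻¹ * g⁻¹ = (g * a * g⁻¹)⁻¹ := by group
    rw [this]; exact Subgroup.inv_mem _ iha

/-- the hypotheses on a twisted group which make the automorphisms rigid -/
structure Rig {X : Ctx D F} {G1 : Subgroup (GL D.Idx F)} {orbs : List (List ℕ)}
    (T : TwData X G1 orbs) (n0 : GL D.Idx F) (Jt : List ℕ) : Prop where
  hf : ∃ x : F, X.f x ≠ x
  hn0 : N0 G1 n0
  hop : Opp X orbs n0
  hdj : ∀ J ∈ orbs, ∀ J' ∈ orbs, J ≠ J' → ∀ i ∈ J, i ∉ J'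
  hcov : ∀ i < D.rank, ∃ J ∈ orbs, i ∈ J
  hrig : ∀ π : List ℕ → List ℕ, (∀ J ∈ orbs, π J ∈ orbs) →
    (∀ J ∈ orbs, ((π J).length = 1 ↔ J.length = 1)) →
    (∀ J ∈ orbs, ∀ J' ∈ orbs, fixPos D ((π J ++ π J') ++ (π J ++ π J')) =
      fixPos D ((J ++ J') ++ (J ++ J'))) → ∀ J ∈ orbs, π J = J
  hJt : Jt ∈ orbs
  hJtl : Jt.length ≠ 1
  hreach : ∀ R : List ℕ → Prop, R Jt →
    (∀ J ∈ orbs, ∀ J' ∈ orbs, EdgeOK X J J' → R J' → R J) → ∀ J ∈ orbs, R J
  hcomm : ∀ (τ : F ≃+* F) (x : F), τ (X.f x) = X.f (τ x)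

section dAut

variable {X : Ctx D F} {G1 : Subgroup (GL D.Idx F)} {orbs : List (List ℕ)} (T : TwData X G1 orbs)
  {χ : ℕ → Fˣ} (hχ : D.IsRootCharacter χ) {sJ : List ℕ → F} (hc : DCompat X orbs χ sJ)
include T hχ hc

theorem conj_inv_iff {K : Subgroup (GL D.Idx F)}
    (h : ∀ (χ' : ℕ → Fˣ), D.IsRootCharacter χ' → ∀ (g : GL D.Idx F),
      (g : Matrix D.Idx D.Idx F) = D.charDiag F χ' → ∀ u ∈ K, g * u * g⁻¹ ∈ K)
    (y : GL D.Idx F) : dU D F χ * y * (dU D F χ)⁻¹ ∈ K ↔ y ∈ K := by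
  constructor
  · intro hy
    have := h _ (Cfsg.Agent.Helper11.ChevCharDiag.isRootCharacter_inv hχ) _ (dU_inv_val χ) _ hy
    rw [inv_inv] at this
    have e : (dU D F χ)⁻¹ * (dU D F χ * y * (dU D F χ)⁻¹) * dU D F χ = y := by group
    rwa [e] at this
  · exact h χ hχ _ (dU_val χ) y

theorem pres_dAut_U1 : Pres (dAut T hχ hc) (U1 D F G1) := by
  intro y
  rw [mem_U1, mem_U1, dAut_coe]
  exact conj_inv_iff T hχ hc (fun χ' hχ' g hg u hu =>
    Cfsg.Agent.Helper11.ChevCharDiag.conj_posUnipotent_mem X.hB hχ' hg hu) _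

theorem pres_dAut_V1 : Pres (dAut T hχ hc) (V1 D F G1) := by
  intro y
  rw [mem_V1, mem_V1, dAut_coe]
  exact conj_inv_iff T hχ hc (fun χ' hχ' g hg u hu =>
    conj_negUnipotent_mem' X.hB hχ' hg hu) _

theorem pres_dAut_B1 : Pres (dAut T hχ hc) (B1 D F G1) := by
  intro y
  rw [mem_B1, mem_B1, dAut_coe]
  exact conj_inv_iff T hχ hc (fun χ' hχ' g hg u hu =>
    Cfsg.Agent.Helper11.ChevCharDiag.conj_borel_mem X.hB T.bn.hH hχ' hg hu) _

/-- the shape of `θ ∘ d` -/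
theorem shape_trans_dAut {θ : ↥G1 ≃* ↥G1} {π : List ℕ → List ℕ} {fp fn : List ℕ → F → F}
    (S : Shape T θ π fp fn) :
    Shape T ((dAut T hχ hc).trans θ) π (fun J a => fp J (sJ J * a))
      (fun J a => fn J ((sJ J)⁻¹ * a)) := by
  refine ⟨S.mem, S.len, ?_, ?_, ?_⟩
  · intro J hJ a ha
    have hA := AJ_mul X J (hc J hJ).2.1 ha
    refine ⟨S.fpA hJ hA, ?_⟩
    show θ (dAut T hχ hc (xT T true J a)) = _
    rw [dAut_xT_true T hχ hc hJ ha, S.posE hJ hA]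
  · intro J hJ a ha
    have hA := AJ_mul X J (AJ_inv X J (hc J hJ).2.1) ha
    refine ⟨S.fnA hJ hA, ?_⟩
    show θ (dAut T hχ hc (xT T false J a)) = _
    rw [dAut_xT_false T hχ hc hJ ha, S.negE hJ hA]
  · intro J hJ b hb
    obtain ⟨a, ha, e⟩ := S.surj J hJ b hb
    refine ⟨(sJ J)⁻¹ * a, AJ_mul X J (AJ_inv X J (hc J hJ).2.1) ha, ?_⟩
    show fp J (sJ J * ((sJ J)⁻¹ * a)) = b
    rw [← mul_assoc, mul_inv_cancel₀ (hc J hJ).1, one_mul, e]

end dAut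

section main

variable {X : Ctx D F} {G1 : Subgroup (GL D.Idx F)} {orbs : List (List ℕ)} {T : TwData X G1 orbs}
  {n0 : GL D.Idx F} {Jt : List ℕ}

/-- a normalised automorphism with `f_J(1) = 1` is a field automorphism -/
theorem eq_fieldA [Finite F] (R : Rig T n0 Jt) {θ : ↥G1 ≃* ↥G1} {π : List ℕ → List ℕ}
    {fp fn : List ℕ → F → F} (S : Shape T θ π fp fn) (h1 : ∀ J ∈ orbs, fp J 1 = 1)
    (hPB : Pres θ (B1 D F G1)) : ∃ τ : F ≃+* F, θ = fieldA T R.hcomm τ := by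
  have hπ := R.hrig π S.mem S.len (fun J hJ J' hJ' => S.ord_eq h1 hPB hJ hJ')
  have hAt : ∀ a : F, AJ X Jt a := fun a => AJ_of_length X Jt R.hJtl
  have hinj : Function.Injective (fp Jt) := fun a b hab => S.fp_inj R.hJt (hAt a) (hAt b) hab
  obtain ⟨τ, hτ⟩ : ∃ τ : F ≃+* F, ∀ a, τ a = fp Jt a :=
    ⟨RingEquiv.ofBijective
      ({ toFun := fp Jt
         map_one' := h1 Jt R.hJt
         map_mul' := fun a b => S.fp_mul h1 hπ R.hJt (hAt a) (hAt b)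
         map_zero' := S.fp_zero R.hJt
         map_add' := fun a b => S.fp_add R.hJt (hAt a) (hAt b) } : F →+* F)
      ⟨hinj, Finite.injective_iff_surjective.1 hinj⟩, fun a => rfl⟩
  have key : ∀ J ∈ orbs, ∀ a, AJ X J a → fp J a = fp Jt a := by
    apply R.hreach (fun J => ∀ a, AJ X J a → fp J a = fp Jt a) (fun a _ => rfl)
    intro J hJ J' hJ' hE ih a ha
    rw [← S.fp_edge h1 hπ hJ hJ' hE ha]
    exact ih a (fun hl => ha (hE.1 hl))
  refine ⟨τ, ext_xT T (fun J hJ b a ha => ?_)⟩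
  rw [fieldA_xT T R.hcomm hJ b ha, hτ, ← key J hJ a ha]
  cases b
  · rw [S.negE' hπ hJ ha, S.fn_eq_fp h1 hπ hJ ha]
  · rw [S.posE' hπ hJ ha]

/-- the structure of the automorphisms preserving `U¹` and `V¹` -/
theorem main_normalized [Finite F] (R : Rig T n0 Jt) {θ : ↥G1 ≃* ↥G1}
    (hPU : Pres θ (U1 D F G1)) (hPV : Pres θ (V1 D F G1)) :
    ∃ (c : Fin D.rank → Fˣ) (hc : twT X c = c) (τ : F ≃+* F),
      (dAut T (isRootCharacter_rootChar X.tab T.bn (ext1 c)) (compat_of_T0 T hc)).trans θ =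
        fieldA T R.hcomm τ := by
  classical
  obtain ⟨π, fp, fn, S⟩ := exists_shape T R.hf R.hn0 R.hop R.hdj hPU hPV
  have h0 : ∀ J, ∃ s : F, J ∈ orbs → (s ≠ 0 ∧ AJ X J s ∧ fp J s = 1) := by
    intro J
    by_cases hJ : J ∈ orbs
    · obtain ⟨a, ha, e⟩ := S.surj J hJ 1 (AJ_one X J)
      refine ⟨a, fun _ => ⟨?_, ha, e⟩⟩
      intro h
      rw [h, S.fp_zero hJ] at e
      exact zero_ne_one e
    · exact ⟨1, fun h => absurd h hJ⟩
  choose sJ hsJ using h0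
  obtain ⟨c, hcT, hc⟩ := exists_T0_compat T R.hdj R.hcov sJ
    (fun J hJ => ⟨(hsJ J hJ).1, (hsJ J hJ).2.1⟩)
  have hχ := isRootCharacter_rootChar X.tab T.bn (ext1 c)
  have S' := shape_trans_dAut T hχ hc S
  have h1 : ∀ J ∈ orbs, (fun J a => fp J (sJ J * a)) J 1 = 1 := by
    intro J hJ
    show fp J (sJ J * 1) = 1
    rw [mul_one]; exact (hsJ J hJ).2.2
  have hPB : Pres ((dAut T hχ hc).trans θ) (B1 D F G1) := fun y =>
    ((pres_B1 T hPU) _).trans (pres_dAut_B1 T hχ hc y)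
  obtain ⟨τ, hτ⟩ := eq_fieldA R S' h1 hPB
  exact ⟨c, hcT, τ, hτ⟩

end main

end Cfsg.Agent.Helper2.TwAut
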