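import Mathlib
import Cfsg.Agent.Helper2.TwAut.Main
import Cfsg.Agent.Helper2.Aut.OutE

/-!
# Counting the outer automorphisms of a twisted group
-/

set_option autoImplicit false
set_option linter.unusedSectionVars false
set_option linter.unusedSimpArgs false
set_option linter.unusedVariables false

namespace Cfsg.Agent.Helper2.TwAut

open Cfsg.Lie Cfsg.Agent.Helper6 Cfsg.Agent.Helper2.Aut Cfsg.Agent.Helper2.BN
open Cfsg.Agent.Helper11.TwCtx Cfsg.Agent.Helper11.TwReach Cfsg.Agent.Helper11.TwBNA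
  Cfsg.Agent.Helper11.TwBNB Cfsg.Agent.Helper11.TwBNC Cfsg.Agent.Helper11.TwBND
  Cfsg.Agent.Helper11.TwTorA Cfsg.Agent.Helper11.TwFix

variable {D : ChevalleyDatum} {F : Type*} [Field F]

section normalizes

variable {X : Ctx D F} {G1 : Subgroup (GL D.Idx F)} {orbs : List (List ℕ)} (T : TwData X G1 orbs)
  {n0 : GL D.Idx F} (hn0 : N0 G1 n0)
include T hn0

/-- an element of `G¹` normalising `U¹` and `V¹` lies in `H¹` -/
theorem mem_H1_of_normalizes {x : ↥G1}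
    (hU : ∀ y, x * y * x⁻¹ ∈ U1 D F G1 ↔ y ∈ U1 D F G1)
    (hV : ∀ y, x * y * x⁻¹ ∈ V1 D F G1 ↔ y ∈ V1 D F G1) : x ∈ H1 D F G1 := by
  have hxB : x ∈ B1 D F G1 := by
    rw [← normalizer_U1 T, Subgroup.mem_normalizer_iff]
    intro y; exact (hU y).symm
  rw [mem_B1] at hxB
  obtain ⟨u, hu, h, hh, hfu, hfh, e⟩ := borel_fix_decomp X T.bn T.hsp hxB (T.hfix x.2)
  have huG1 : u ∈ G1 := T.hUfix ⟨hfu, hu⟩
  have hhG1 : h ∈ G1 := by
    have : h = u⁻¹ * (x : GL D.Idx F) := by rw [e]; group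
    rw [this]; exact G1.mul_mem (G1.inv_mem huG1) x.2
  obtain ⟨uG, huG⟩ : ∃ uG : ↥G1, (uG : GL D.Idx F) = u := ⟨⟨u, huG1⟩, rfl⟩
  obtain ⟨hG', hhG⟩ : ∃ hG' : ↥G1, (hG' : GL D.Idx F) = h := ⟨⟨h, hhG1⟩, rfl⟩
  have ex : x = uG * hG' := Subtype.ext (by rw [Subgroup.coe_mul, huG, hhG, e])
  have huU : uG ∈ U1 D F G1 := by rw [mem_U1, huG]; exact hu
  have hhV : ∀ y, hG' * y * hG'⁻¹ ∈ V1 D F G1 ↔ y ∈ V1 D F G1 := by
    intro y
    rw [mem_V1, mem_V1]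
    simp only [Subgroup.coe_mul, Subgroup.coe_inv, hhG]
    constructor
    · intro hy
      have := diag_conj_negUnipotent T.bn (Subgroup.inv_mem _ hh) hy
      rw [inv_inv] at this
      have e2 : h⁻¹ * (h * (y : GL D.Idx F) * h⁻¹) * h = (y : GL D.Idx F) := by group
      rwa [e2] at this
    · exact diag_conj_negUnipotent T.bn hh
  have huV : ∀ y, uG * y * uG⁻¹ ∈ V1 D F G1 ↔ y ∈ V1 D F G1 := by
    intro y
    have e3 : uG * y * uG⁻¹ = x * (hG'⁻¹ * y * hG') * x⁻¹ := by rw [ex]; group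
    rw [e3, hV]
    have := hhV (hG'⁻¹ * y * hG')
    have e4 : hG' * (hG'⁻¹ * y * hG') * hG'⁻¹ = y := by group
    rw [e4] at this
    exact this.symm
  obtain ⟨y, hy⟩ : ∃ y, y = (n0G hn0)⁻¹ * uG * n0G hn0 := ⟨_, rfl⟩
  have hyV : y ∈ V1 D F G1 := by
    rw [mem_V1_iff' T hn0, hy]
    have : n0G hn0 * ((n0G hn0)⁻¹ * uG * n0G hn0) * (n0G hn0)⁻¹ = uG := by group
    rw [this]; exact huU
  have hyN : y ∈ Subgroup.normalizer ((U1 D F G1 : Subgroup ↥G1) : Set ↥G1) := by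
    rw [Subgroup.mem_normalizer_iff]
    intro z
    rw [mem_U1_iff' T hn0 z, mem_U1_iff' T hn0 (y * z * y⁻¹)]
    have e5 : n0G hn0 * (y * z * y⁻¹) * (n0G hn0)⁻¹ =
        uG * (n0G hn0 * z * (n0G hn0)⁻¹) * uG⁻¹ := by rw [hy]; group
    rw [e5, huV]
  rw [normalizer_U1 T] at hyN
  have hy1 := eq_one_of_mem_B1_of_mem_V1 T hyN hyV
  have hu1 : uG = 1 := by
    have : uG = n0G hn0 * y * (n0G hn0)⁻¹ := by rw [hy]; group
    rw [this, hy1]; group
  rw [ex, hu1, one_mul, mem_H1, hhG]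
  exact hh

end normalizes

/-- the subgroup of the automorphisms preserving `U¹` and `V¹` -/
def NAut (D : ChevalleyDatum) (F : Type*) [Field F] (G1 : Subgroup (GL D.Idx F)) :
    Subgroup (MulAut ↥G1) where
  carrier := {θ | Pres θ (U1 D F G1) ∧ Pres θ (V1 D F G1)}
  mul_mem' := fun {a b} ha hb => ⟨Pres.mul ha.1 hb.1, Pres.mul ha.2 hb.2⟩
  one_mem' := ⟨Pres.refl _, Pres.refl _⟩
  inv_mem' := fun {a} ha => ⟨ha.1.symm, ha.2.symm⟩

theorem mem_NAut {G1 : Subgroup (GL D.Idx F)} {θ : MulAut ↥G1} :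
    θ ∈ NAut D F G1 ↔ Pres θ (U1 D F G1) ∧ Pres θ (V1 D F G1) := Iff.rfl

section count

variable {X : Ctx D F} {G1 : Subgroup (GL D.Idx F)} {orbs : List (List ℕ)} {T : TwData X G1 orbs}
  {n0 : GL D.Idx F} {Jt : List ℕ}

/-- the orbit parameters of a parameter of the twisted torus -/
def sJc (c : Fin D.rank → Fˣ) (J : List ℕ) : F := ((ext1 c (J.headD 0) : Fˣ) : F)

/-- the diagonal automorphism attached to a parameter of the twisted torus -/
noncomputable def dA (T : TwData X G1 orbs) (c : ↥(T0 X)) : ↥G1 ≃* ↥G1 :=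
  dAut T (isRootCharacter_rootChar X.tab T.bn (ext1 c.1)) (compat_of_T0 T c.2)

theorem dA_xT_true (c : ↥(T0 X)) {J : List ℕ} (hJ : J ∈ orbs) {a : F} (ha : AJ X J a) :
    dA T c (xT T true J a) = xT T true J (sJc c.1 J * a) :=
  dAut_xT_true T _ (compat_of_T0 T c.2) hJ ha

theorem sJc_ne_zero (c : Fin D.rank → Fˣ) (J : List ℕ) : sJc (F := F) c J ≠ 0 := Units.ne_zero _

theorem sJc_AJ (T : TwData X G1 orbs) (c : ↥(T0 X)) {J : List ℕ} (hJ : J ∈ orbs) :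
    AJ X J (sJc c.1 J) :=
  (compat_of_T0 T c.2 J hJ).2.1

theorem dA_symm_xT_true (c : ↥(T0 X)) {J : List ℕ} (hJ : J ∈ orbs) {a : F} (ha : AJ X J a) :
    (dA T c).symm (xT T true J a) = xT T true J ((sJc c.1 J)⁻¹ * a) := by
  rw [MulEquiv.symm_apply_eq,
    dA_xT_true c hJ (AJ_mul X J (AJ_inv X J (sJc_AJ T c hJ)) ha), ← mul_assoc,
    mul_inv_cancel₀ (sJc_ne_zero c.1 J), one_mul]

/-- the parametrisation of the normalised automorphisms -/
noncomputable def psiN (R : Rig T n0 Jt) (p : ↥(T0 X) × (F ≃+* F)) : MulAut ↥G1 :=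
  (dA T p.1).symm.trans (fieldA T R.hcomm p.2)

theorem psiN_apply (R : Rig T n0 Jt) (p : ↥(T0 X) × (F ≃+* F)) (y : ↥G1) :
    psiN R p y = fieldA T R.hcomm p.2 ((dA T p.1).symm y) := rfl

theorem psiN_mem (R : Rig T n0 Jt) (p : ↥(T0 X) × (F ≃+* F)) : psiN R p ∈ NAut D F G1 := by
  constructor
  · intro y
    rw [psiN_apply]
    exact ((pres_fieldA_U1 T R.hcomm p.2) _).trans ((pres_dAut_U1 T _ (compat_of_T0 T p.1.2)).symm y)
  · intro y
    rw [psiN_apply]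
    exact ((pres_fieldA_V1 T R.hcomm p.2) _).trans ((pres_dAut_V1 T _ (compat_of_T0 T p.1.2)).symm y)

theorem psiN_xT_true (R : Rig T n0 Jt) (p : ↥(T0 X) × (F ≃+* F)) {J : List ℕ} (hJ : J ∈ orbs)
    {a : F} (ha : AJ X J a) :
    psiN R p (xT T true J a) = xT T true J (p.2 ((sJc p.1.1 J)⁻¹ * a)) := by
  rw [psiN_apply, dA_symm_xT_true p.1 hJ ha,
    fieldA_xT T R.hcomm hJ true (AJ_mul X J (AJ_inv X J (sJc_AJ T p.1 hJ)) ha)]

theorem psiN_injective (R : Rig T n0 Jt) : Function.Injective (psiN R) := by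
  rintro ⟨c, τ⟩ ⟨c', τ'⟩ h
  have key : ∀ J ∈ orbs, ∀ a, AJ X J a →
      τ ((sJc c.1 J)⁻¹ * a) = τ' ((sJc c'.1 J)⁻¹ * a) := by
    intro J hJ a ha
    have h1 := congrArg (fun φ : MulAut ↥G1 => φ (xT T true J a)) h
    rw [psiN_xT_true R _ hJ ha, psiN_xT_true R _ hJ ha] at h1
    have hA : ∀ (c₀ : ↥(T0 X)) (τ₀ : F ≃+* F), AJ X J (τ₀ ((sJc c₀.1 J)⁻¹ * a)) := by
      intro c₀ τ₀ hl
      rw [← R.hcomm, (AJ_mul X J (AJ_inv X J (sJc_AJ T c₀ hJ)) ha) hl]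
    exact xT_true_inj T hJ (hA c τ) (hA c' τ') h1
  have hs : ∀ J ∈ orbs, sJc c.1 J = sJc c'.1 J := by
    intro J hJ
    have := key J hJ (sJc c.1 J) (sJc_AJ T c hJ)
    rw [inv_mul_cancel₀ (sJc_ne_zero c.1 J), map_one] at this
    have h2 : (sJc c'.1 J)⁻¹ * sJc c.1 J = 1 := by
      apply τ'.injective; rw [← this, map_one]
    have h3 := congrArg (fun z => sJc c'.1 J * z) h2
    rw [← mul_assoc, mul_inv_cancel₀ (sJc_ne_zero c'.1 J), one_mul, mul_one] at h3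
    exact h3
  have hτ : τ = τ' := by
    ext a
    have := key Jt R.hJt (sJc c.1 Jt * a) (AJ_of_length X Jt R.hJtl)
    rw [← hs Jt R.hJt, ← mul_assoc, inv_mul_cancel₀ (sJc_ne_zero c.1 Jt), one_mul] at this
    exact this
  have hc : c = c' := by
    apply Subtype.ext
    funext i
    obtain ⟨J, hJ, hiJ⟩ := R.hcov i.val i.isLt
    have h1 := (compat_of_T0 T c.2 J hJ).2.2 i.val hiJ
    have h2 := (compat_of_T0 T c'.2 J hJ).2.2 i.val hiJ
    rw [rootChar_simple X.tab T.bn _ i.isLt] at h1 h2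
    have e : (fun J => ((ext1 c.1 (J.headD 0) : Fˣ) : F)) J =
        (fun J => ((ext1 c'.1 (J.headD 0) : Fˣ) : F)) J := hs J hJ
    rw [e, ← h2] at h1
    have h3 := Units.ext h1
    rwa [ext1_val, ext1_val] at h3
  rw [hc, hτ]

theorem psiN_surjective [Finite F] (R : Rig T n0 Jt) {θ : MulAut ↥G1} (hθ : θ ∈ NAut D F G1) :
    ∃ p, psiN R p = θ := by
  obtain ⟨c, hc, τ, h⟩ := main_normalized R hθ.1 hθ.2
  refine ⟨(⟨c, hc⟩, τ), ?_⟩
  refine MulEquiv.ext fun y => ?_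
  rw [psiN_apply]
  have := congrArg (fun φ : ↥G1 ≃* ↥G1 => φ ((dA T ⟨c, hc⟩).symm y)) h
  rw [← this]
  show θ (dA T ⟨c, hc⟩ ((dA T ⟨c, hc⟩).symm y)) = θ y
  rw [MulEquiv.apply_symm_apply]

theorem card_NAut [Finite F] (R : Rig T n0 Jt) :
    Nat.card ↥(NAut D F G1) = Nat.card ↥(T0 X) * Nat.card (F ≃+* F) := by
  rw [← Nat.card_prod]
  symm
  apply Nat.card_congr
  refine Equiv.ofBijective (fun p => ⟨psiN R p, psiN_mem R p⟩) ⟨?_, ?_⟩
  · intro p q h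
    exact psiN_injective R (congrArg Subtype.val h)
  · rintro ⟨θ, hθ⟩
    obtain ⟨p, hp⟩ := psiN_surjective R hθ
    exact ⟨p, Subtype.ext hp⟩

end count

end Cfsg.Agent.Helper2.TwAut
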