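import Mathlib
import Cfsg.Agent.Helper2.TwAut.Count
import Cfsg.Agent.Helper2.Aut.OutB

/-!
# Counting the outer automorphisms of a twisted group: the inner normalised automorphisms
-/

set_option autoImplicit false
set_option linter.unusedSectionVars false
set_option linter.unusedSimpArgs false
set_option linter.unusedVariables false

namespace Cfsg.Agent.Helper2.TwAut

open Cfsg.Lie Cfsg.Agent.Helper6 Cfsg.Agent.Helper2.Aut Cfsg.Agent.Helper2.BN
open Cfsg.Agent.Helper11.TwCtx Cfsg.Agent.Helper11.TwReach Cfsg.Agent.Helper11.TwBNA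
  Cfsg.Agent.Helper11.TwBNB Cfsg.Agent.Helper11.TwBNC Cfsg.Agent.Helper11.TwBND
  Cfsg.Agent.Helper11.TwTorA Cfsg.Agent.Helper11.TwFix

variable {D : ChevalleyDatum} {F : Type*} [Field F]

section center

variable {X : Ctx D F} {G1 : Subgroup (GL D.Idx F)} {orbs : List (List ℕ)} (T : TwData X G1 orbs)
include T

theorem torHom_conj_xU (c : Fin D.rank → Fˣ) {r : ℕ} (hr : r < D.nroots) (t : F) :
    torHom D F c * xU X.hB r t * (torHom D F c)⁻¹ =
      xU X.hB r (torChar D (extPar D c) r * t) := by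
  rw [mul_inv_eq_iff_eq_mul]
  apply Units.ext
  simp only [Units.val_mul, xU_val, torHom_val]
  exact torMat_mul_x X.hB T.bn.hAdd (extPar_ne_zero c) hr t

/-- a central element of `G¹` lying in `H¹` is trivial -/
theorem eq_one_of_central (hH : D.diagonalSubgroup F ⊓ G1 = H0 X)
    (hcov : ∀ i < D.rank, ∃ J ∈ orbs, i ∈ J) {z : ↥G1} (hz : z ∈ H1 D F G1)
    (hcen : ∀ y : ↥G1, z * y = y * z) : z = 1 := by
  rw [mem_H1] at hz
  have hz0 : (z : GL D.Idx F) ∈ H0 X := by rw [← hH]; exact ⟨hz, z.2⟩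
  obtain ⟨c, hc, e⟩ := hz0
  have hk : powHom Fˣ (cartanMat D) c = 1 := by
    funext j
    obtain ⟨J, hJ, hjJ⟩ := hcov j.val j.isLt
    have hO := T.horb J hJ
    obtain ⟨C, hC, hperm⟩ := T.hcls J hJ
    have h1 := hcen (xT T true J 1)
    have h2 : (z : GL D.Idx F) * xP X J 1 * (z : GL D.Idx F)⁻¹ = xP X J 1 := by
      have := congrArg Subtype.val h1
      simp only [Subgroup.coe_mul, xT_true_coe T hJ (AJ_one X J)] at this
      rw [this]; group
    have h3 : torHom D F c * wp X.hB J (orbFun D X.f J 1) * (torHom D F c)⁻¹ =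
        wp X.hB J (fun r => torChar D (extPar D c) r * orbFun D X.f J 1 r) := by
      unfold wp
      rw [conj_wordU_of X.hB (fun r hr t => torHom_conj_xU T c hr t)]
      · rw [List.map_map]; rfl
      · intro p hp
        simp only [List.map_map, List.mem_map, Function.comp] at hp
        obtain ⟨i, hi, rfl⟩ := hp
        exact (X.hAll i (hO.lt i hi)).hS.1
    have e' : torHom D F c = (z : GL D.Idx F) := e
    rw [← e', xP_eq_wp X T.bn T.hsp hO, h3] at h2
    have h4 := wp_inj X T.bn T.hsp hO hC hperm h2 j.val hjJ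
    have h5 : torChar D (extPar D c) (D.simple j.val) = 1 := by
      have hne := orbFun_ne_zero X T.bn T.hsp hO (one_ne_zero (α := F)) (D.simple j.val)
      exact mul_right_cancel₀ hne (by rw [h4, one_mul])
    apply Units.ext
    rw [← torChar_extPar_simple c j, h5]
    rfl
  have hker : c ∈ (torHom D F).ker := by
    rw [ker_torHom X.hB X.hAll T.bn.hReach]; exact hk
  apply Subtype.ext
  have e' : torHom D F c = (z : GL D.Idx F) := e
  rw [← e', MonoidHom.mem_ker.1 hker]
  rfl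

end center

section final

variable {X : Ctx D F} {G1 : Subgroup (GL D.Idx F)} {orbs : List (List ℕ)} {T : TwData X G1 orbs}
  {n0 : GL D.Idx F} {Jt : List ℕ}

/-- the projection of the normalised automorphisms to the outer automorphism group -/
noncomputable def psiOut (D : ChevalleyDatum) (F : Type*) [Field F] (G1 : Subgroup (GL D.Idx F)) :
    ↥(NAut D F G1) →* Cfsg.Out ↥G1 := (outMk ↥G1).comp (NAut D F G1).subtype

theorem psiOut_apply (θ : ↥(NAut D F G1)) : psiOut D F G1 θ = outMk ↥G1 θ.1 := rfl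

theorem psiOut_surjective [Finite F] (R : Rig T n0 Jt) (p : ℕ) [Fact p.Prime]
    (hSyl : ∃ P : Sylow p ↥G1, (P : Subgroup ↥G1) = U1 D F G1) :
    Function.Surjective (psiOut D F G1) := by
  intro o
  obtain ⟨θ, rfl⟩ := outMk_surjective (G := ↥G1) o
  obtain ⟨x, hU, hV, -⟩ := exists_normalize T p hSyl R.hn0 θ
  refine ⟨⟨cjA x θ, hU, hV⟩, ?_⟩
  rw [psiOut_apply]
  show outMk ↥G1 (MulAut.conj x⁻¹ * θ) = outMk ↥G1 θ
  rw [map_mul, outMk_conj, one_mul]

theorem conj_mem_NAut (T : TwData X G1 orbs) {h : ↥G1} (hh : h ∈ H1 D F G1) :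
    MulAut.conj h ∈ NAut D F G1 := by
  have hhd := mem_H1.1 hh
  constructor
  · intro y
    rw [MulAut.conj_apply]
    have := B1_le_normalizer_U1 T (H1_le_B1 T hh)
    rw [Subgroup.mem_normalizer_iff] at this
    exact (this y).symm
  · intro y
    rw [MulAut.conj_apply, mem_V1, mem_V1]
    simp only [Subgroup.coe_mul, Subgroup.coe_inv]
    constructor
    · intro hy
      have := diag_conj_negUnipotent T.bn (Subgroup.inv_mem _ hhd) hy
      rw [inv_inv] at this
      have e2 : (h : GL D.Idx F)⁻¹ * ((h : GL D.Idx F) * (y : GL D.Idx F) * (h : GL D.Idx F)⁻¹) *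
          (h : GL D.Idx F) = (y : GL D.Idx F) := by group
      rwa [e2] at this
    · exact diag_conj_negUnipotent T.bn hhd

theorem card_ker_psiOut (R : Rig T n0 Jt) (hH : D.diagonalSubgroup F ⊓ G1 = H0 X) :
    Nat.card ↥(psiOut D F G1).ker = Nat.card ↥(H0 X) := by
  have e1 : Nat.card ↥(H0 X) = Nat.card ↥(H1 D F G1) := by
    rw [← hH]
    exact (Nat.card_congr (Subgroup.subgroupOfEquivOfLe
      (inf_le_right : D.diagonalSubgroup F ⊓ G1 ≤ G1)).toEquiv).symm
  rw [e1]
  symm
  apply Nat.card_congr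
  refine Equiv.ofBijective
    (fun h : ↥(H1 D F G1) => (⟨⟨MulAut.conj h.1, conj_mem_NAut T h.2⟩, by
      rw [MonoidHom.mem_ker, psiOut_apply]; exact outMk_conj _⟩ : ↥(psiOut D F G1).ker)) ⟨?_, ?_⟩
  · intro h h' e
    have e1 : MulAut.conj h.1 = MulAut.conj h'.1 := congrArg (fun z => z.1.1) e
    have hz : h.1⁻¹ * h'.1 ∈ H1 D F G1 := Subgroup.mul_mem _ (Subgroup.inv_mem _ h.2) h'.2
    have hcen : ∀ y : ↥G1, h.1⁻¹ * h'.1 * y = y * (h.1⁻¹ * h'.1) := by
      intro y
      have := congrArg (fun φ : MulAut ↥G1 => φ y) e1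
      simp only [MulAut.conj_apply] at this
      have e3 : h'.1 * y = h.1 * y * h.1⁻¹ * h'.1 := by rw [this]; group
      calc h.1⁻¹ * h'.1 * y = h.1⁻¹ * (h'.1 * y) := by group
        _ = h.1⁻¹ * (h.1 * y * h.1⁻¹ * h'.1) := by rw [← e3]
        _ = y * (h.1⁻¹ * h'.1) := by group
    have := eq_one_of_central T hH R.hcov hz hcen
    apply Subtype.ext
    exact (inv_mul_eq_one.1 this)
  · rintro ⟨⟨θ, hθ⟩, hk⟩
    rw [MonoidHom.mem_ker, psiOut_apply] at hk
    obtain ⟨x, hx⟩ := (outMk_eq_one_iff θ).1 hk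
    have hxH : x ∈ H1 D F G1 := mem_H1_of_normalizes T R.hn0
      (fun y => by rw [← hx]; exact hθ.1 y) (fun y => by rw [← hx]; exact hθ.2 y)
    refine ⟨⟨x, hxH⟩, ?_⟩
    apply Subtype.ext
    apply Subtype.ext
    refine MulEquiv.ext fun y => ?_
    show MulAut.conj x y = θ y
    rw [MulAut.conj_apply, hx]

/-- the order of the outer automorphism group of a twisted group -/
theorem card_out_mul [Finite F] (R : Rig T n0 Jt) (p : ℕ) [Fact p.Prime]
    (hSyl : ∃ P : Sylow p ↥G1, (P : Subgroup ↥G1) = U1 D F G1)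
    (hH : D.diagonalSubgroup F ⊓ G1 = H0 X) :
    Nat.card ↥(H0 X) * Nat.card (Cfsg.Out ↥G1) = Nat.card ↥(T0 X) * Nat.card (F ≃+* F) := by
  rw [← card_NAut R, ← card_ker_psiOut R hH]
  have h1 := Subgroup.card_mul_index (psiOut D F G1).ker
  rw [Subgroup.index_ker, MonoidHom.range_eq_top.2 (psiOut_surjective R p hSyl)] at h1
  rw [← h1]
  congr 1
  exact (Nat.card_congr Subgroup.topEquiv.toEquiv).symm

end final

end Cfsg.Agent.Helper2.TwAut
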