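import Mathlib
import Cfsg.Agent.Helper2.TwAut.Count2

/-!
# The longest element of a twisted group from a word in the fundamental reflections
-/

set_option autoImplicit false
set_option linter.unusedSectionVars false
set_option linter.unusedSimpArgs false
set_option linter.unusedVariables false

namespace Cfsg.Agent.Helper2.TwAut

open Cfsg.Lie Cfsg.Agent.Helper6 Cfsg.Agent.Helper2.Aut Cfsg.Agent.Helper2.BN
open Cfsg.Agent.Helper11.TwCtx Cfsg.Agent.Helper11.TwReach Cfsg.Agent.Helper11.TwBNA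
  Cfsg.Agent.Helper11.TwBNB Cfsg.Agent.Helper11.TwBNC Cfsg.Agent.Helper11.TwBND
  Cfsg.Agent.Helper11.TwTorA Cfsg.Agent.Helper11.TwFix

variable {D : ChevalleyDatum} {F : Type*} [Field F]

/-- table facts on a word representing the longest element -/
def wChk (D : ChevalleyDatum) (w : List ℕ) : Bool :=
  allL w (fun i => Nat.blt i D.rank) &&
  (allLt D.nroots fun s =>
    bif Nat.ble (D.nroots / 2) s then
      Nat.blt (wFoldD D w s) (D.nroots / 2) && Nat.blt (wFoldD D w.reverse s) (D.nroots / 2)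
    else Nat.ble (D.nroots / 2) (wFoldD D w s) && Nat.ble (D.nroots / 2) (wFoldD D w.reverse s))

/-- the table facts in usable form -/
structure WData (D : ChevalleyDatum) (w : List ℕ) : Prop where
  hL : ∀ i ∈ w, i < D.rank
  pos_neg : ∀ s < D.nroots, D.nroots / 2 ≤ s →
    wFold D w s < D.nroots / 2 ∧ wFold D w.reverse s < D.nroots / 2
  neg_pos : ∀ s < D.nroots, s < D.nroots / 2 →
    D.nroots / 2 ≤ wFold D w s ∧ D.nroots / 2 ≤ wFold D w.reverse s

theorem wData_of_chk (Δ : BNData D F) {w : List ℕ} (h : wChk D w = true) : WData D w := by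
  simp only [wChk, Bool.and_eq_true, allL_iff, allLt_iff, Nat.blt_eq, Nat.ble_eq] at h
  obtain ⟨hL, h2⟩ := h
  have hLr : ∀ i ∈ w.reverse, i < D.rank := fun i hi => hL i (List.mem_reverse.1 hi)
  have e1 : ∀ s < D.nroots, wFoldD D w s = wFold D w s := fun s hs =>
    wFoldD_eq Δ.hB Δ.hF Δ.hn Δ.hAll hL hs
  have e2 : ∀ s < D.nroots, wFoldD D w.reverse s = wFold D w.reverse s :=
    fun s hs => wFoldD_eq Δ.hB Δ.hF Δ.hn Δ.hAll hLr hs
  refine ⟨hL, ?_, ?_⟩
  · intro s hs hN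
    have := h2 s hs
    rw [show Nat.ble (D.nroots / 2) s = true from Nat.ble_eq ▸ hN, cond_true, Bool.and_eq_true,
      Nat.blt_eq, Nat.blt_eq, e1 s hs, e2 s hs] at this
    exact this
  · intro s hs hN
    have := h2 s hs
    have hf : Nat.ble (D.nroots / 2) s = false := by
      rw [← Bool.not_eq_true, Nat.ble_eq]; omega
    rw [hf, cond_false, Bool.and_eq_true, Nat.ble_eq, Nat.ble_eq, e1 s hs, e2 s hs] at this
    exact this

section w0

variable (Δ : BNData D F) {w : List ℕ} (W : WData D w)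
include Δ W

theorem nw_conj_U {u : GL D.Idx F} (hu : u ∈ D.posUnipotent F) :
    nW Δ.hB F w * u * (nW Δ.hB F w)⁻¹ ∈ D.negUnipotent F := by
  unfold ChevalleyDatum.posUnipotent at hu
  refine conj_closure_mem _ ?_ u hu
  rintro g ⟨r, t, hr, hg⟩
  have e : g = xU Δ.hB r t := Units.ext (by rw [hg, xU_val])
  obtain ⟨t', ht'⟩ := nW_conj (F := F) Δ.hB Δ.hAll W.hL hr.1 t
  rw [e, ht']
  have hlt := wFold_lt Δ.hB Δ.hAll W.hL hr.1
  exact Δ.xU_neg_mem (((Δ.hsign _ hlt).2).2 (W.pos_neg r hr.1 ((Δ.hsign' r hr.1).1 hr)).1) _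

theorem nw_conj_V {u : GL D.Idx F} (hu : u ∈ D.negUnipotent F) :
    nW Δ.hB F w * u * (nW Δ.hB F w)⁻¹ ∈ D.posUnipotent F := by
  unfold ChevalleyDatum.negUnipotent at hu
  refine conj_closure_mem _ ?_ u hu
  rintro g ⟨r, t, hr, hg⟩
  have e : g = xU Δ.hB r t := Units.ext (by rw [hg, xU_val])
  obtain ⟨t', ht'⟩ := nW_conj (F := F) Δ.hB Δ.hAll W.hL hr.1 t
  rw [e, ht']
  have hlt := wFold_lt Δ.hB Δ.hAll W.hL hr.1
  exact Δ.xU_pos_mem ((Δ.hsign' _ hlt).2 (W.neg_pos r hr.1 (((Δ.hsign r hr.1).2).1 hr)).1) _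

theorem nw_inv_conj_U {u : GL D.Idx F} (hu : u ∈ D.posUnipotent F) :
    (nW Δ.hB F w)⁻¹ * u * nW Δ.hB F w ∈ D.negUnipotent F := by
  unfold ChevalleyDatum.posUnipotent at hu
  have key := conj_closure_mem (K := D.negUnipotent F) (nW Δ.hB F w)⁻¹ ?_ u hu
  · rw [inv_inv] at key; exact key
  rintro g ⟨r, t, hr, hg⟩
  have e : g = xU Δ.hB r t := Units.ext (by rw [hg, xU_val])
  obtain ⟨t', ht'⟩ := nW_inv_conj (F := F) Δ.hB Δ.hAll W.hL hr.1 t
  rw [e, inv_inv, ht']
  have hLr : ∀ i ∈ w.reverse, i < D.rank := fun i hi => W.hL i (List.mem_reverse.1 hi)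
  have hlt := wFold_lt Δ.hB Δ.hAll hLr hr.1
  exact Δ.xU_neg_mem (((Δ.hsign _ hlt).2).2 (W.pos_neg r hr.1 ((Δ.hsign' r hr.1).1 hr)).2) _

theorem nw_inv_conj_V {u : GL D.Idx F} (hu : u ∈ D.negUnipotent F) :
    (nW Δ.hB F w)⁻¹ * u * nW Δ.hB F w ∈ D.posUnipotent F := by
  unfold ChevalleyDatum.negUnipotent at hu
  have key := conj_closure_mem (K := D.posUnipotent F) (nW Δ.hB F w)⁻¹ ?_ u hu
  · rw [inv_inv] at key; exact key
  rintro g ⟨r, t, hr, hg⟩
  have e : g = xU Δ.hB r t := Units.ext (by rw [hg, xU_val])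
  obtain ⟨t', ht'⟩ := nW_inv_conj (F := F) Δ.hB Δ.hAll W.hL hr.1 t
  rw [e, inv_inv, ht']
  have hLr : ∀ i ∈ w.reverse, i < D.rank := fun i hi => W.hL i (List.mem_reverse.1 hi)
  have hlt := wFold_lt Δ.hB Δ.hAll hLr hr.1
  exact Δ.xU_pos_mem ((Δ.hsign' _ hlt).2 (W.neg_pos r hr.1 (((Δ.hsign r hr.1).2).1 hr)).2) _

end w0

theorem conj_wordU_mem (hB : BasicOK D) {K : Subgroup (GL D.Idx F)} (n : GL D.Idx F) :
    ∀ (w' : List (ℕ × F)), (∀ p ∈ w', n * xU hB p.1 p.2 * n⁻¹ ∈ K) →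
      n * wordU hB w' * n⁻¹ ∈ K := by
  intro w'
  induction w' with
  | nil => intro _; simp [wordU_nil']
  | cons p w' ih =>
    intro h
    rw [wordU_cons']
    have e : n * (xU hB p.1 p.2 * wordU hB w') * n⁻¹ =
        (n * xU hB p.1 p.2 * n⁻¹) * (n * wordU hB w' * n⁻¹) := by group
    rw [e]
    exact K.mul_mem (h p List.mem_cons_self) (ih fun q hq => h q (List.mem_cons_of_mem _ hq))

section main

variable {X : Ctx D F} {G1 : Subgroup (GL D.Idx F)} {orbs : List (List ℕ)} (T : TwData X G1 orbs)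
include T

theorem nW_flatten_mem : ∀ (L : List (List ℕ)), (∀ J ∈ L, J ∈ orbs) →
    nW X.hB F L.flatten ∈ G1 := by
  intro L
  induction L with
  | nil => intro _; simp [nW]
  | cons J L ih =>
    intro h
    rw [List.flatten_cons, nW_append]
    exact G1.mul_mem (nJ_mem T (h J List.mem_cons_self))
      (ih fun J' hJ' => h J' (List.mem_cons_of_mem _ hJ'))

/-- the longest element from a word -/
theorem n0_of_wData {w : List ℕ} (W : WData D w) (hmem : nW X.hB F w ∈ G1) :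
    N0 G1 (nW X.hB F w) where
  mem := hmem
  mono := nW_mem_monomial X.hB X.hAll W.hL
  UV := fun u hu => nw_conj_U T.bn W hu
  VU := fun u hu => nw_conj_V T.bn W hu
  UV' := fun u hu => nw_inv_conj_U T.bn W hu
  VU' := fun u hu => nw_inv_conj_V T.bn W hu

/-- the longest element exchanges the positive and the negative twisted root subgroups -/
theorem opp_of_word [Finite F] {w : List ℕ} (hw : ∀ i ∈ w, i < D.rank)
    (hn0 : N0 G1 (nW X.hB F w))
    (hpos : ∀ J ∈ orbs, ∀ i ∈ J, D.nroots / 2 ≤ wFold D (J ++ w) (D.simple i)) :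
    Opp X orbs (nW X.hB F w) := by
  have pn : ∀ J ∈ orbs, ∀ a, AJ X J a →
      ∃ a', AJ X J a' ∧ nW X.hB F w * xP X J a * (nW X.hB F w)⁻¹ = xN X J a' := by
    intro J hJ a ha
    have hO := T.horb J hJ
    obtain ⟨y, hy⟩ : ∃ y : ↥G1, y = n0G hn0 * xT T true J a * (n0G hn0)⁻¹ := ⟨_, rfl⟩
    have hyV : y ∈ V1 D F G1 := by
      rw [hy]; exact (mem_U1_iff' T hn0 _).1 (xT_true_mem_U1 T hJ ha)
    have hsiP : nG T hJ ∈ (bnPair' T).parabolic {nG T hJ} :=
      closure_le_parabolic (P := bnPair' T) _ (Subgroup.subset_closure rfl)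
    have huB : nG T hJ * y * (nG T hJ)⁻¹ ∈ B1 D F G1 := by
      rw [mem_B1]
      apply T.bn.posUnipotent_le_borel
      have e : ((nG T hJ * y * (nG T hJ)⁻¹ : ↥G1) : GL D.Idx F) =
          nW X.hB F (J ++ w) * xP X J a * (nW X.hB F (J ++ w))⁻¹ := by
        rw [hy, nW_append]
        simp only [Subgroup.coe_mul, Subgroup.coe_inv, xT_true_coe T hJ ha]
        show nJ X.hB J * (nW X.hB F w * xP X J a * (nW X.hB F w)⁻¹) * (nJ (F := F) X.hB J)⁻¹ = _
        have : nJ (F := F) X.hB J = nW X.hB F J := rfl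
        rw [this]; group
      rw [e, xP_eq_wp X T.bn T.hsp hO]
      unfold wp
      apply conj_wordU_mem
      intro p hp
      simp only [List.map_map, List.mem_map, Function.comp] at hp
      obtain ⟨i, hi, rfl⟩ := hp
      have hJw : ∀ k ∈ J ++ w, k < D.rank := by
        intro k hk
        rcases List.mem_append.1 hk with hk | hk
        · exact hO.lt k hk
        · exact hw k hk
      have hlt := (X.hAll i (hO.lt i hi)).hS.1
      obtain ⟨t', ht'⟩ := nW_conj (F := F) X.hB X.hAll hJw hlt (orbFun D X.f J a (D.simple i))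
      rw [ht']
      have hlt' := wFold_lt X.hB X.hAll hJw hlt
      exact T.bn.xU_pos_mem ((T.bn.hsign' _ hlt').2 (hpos J hJ i hi)) _
    have hyP : y ∈ (bnPair' T).parabolic {nG T hJ} := by
      have e : y = (nG T hJ)⁻¹ * (nG T hJ * y * (nG T hJ)⁻¹) * nG T hJ := by group
      rw [e]
      exact Subgroup.mul_mem _ (Subgroup.mul_mem _ (Subgroup.inv_mem _ hsiP)
        (B_le_parabolic (P := bnPair' T) _ huB)) hsiP
    obtain ⟨a', ha', e⟩ := (mem_XN_iff T hn0 hJ y).2 ⟨hyV, hyP⟩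
    refine ⟨a', ha', ?_⟩
    rw [← e, hy]
    simp only [Subgroup.coe_mul, Subgroup.coe_inv, xT_true_coe T hJ ha]
    rfl
  refine ⟨pn, ?_⟩
  intro J hJ a' ha'
  -- the map `a ↦ a'` is injective, hence surjective
  have hex := pn J hJ
  choose κ hκA hκ using hex
  let g : {a : F // AJ X J a} → {a : F // AJ X J a} := fun a => ⟨κ a.1 a.2, hκA a.1 a.2⟩
  obtain ⟨Φ, hΦ⟩ := exists_isPhi T hJ
  have hinj : Function.Injective g := by
    intro a b hab
    have h1 := hκ a.1 a.2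
    have h2 := hκ b.1 b.2
    have e : κ a.1 a.2 = κ b.1 b.2 := congrArg Subtype.val hab
    rw [e, ← h2] at h1
    have h3 : xP X J a.1 = xP X J b.1 := by
      have := congrArg (fun z => (nW X.hB F w)⁻¹ * z * nW X.hB F w) h1
      have e1 : ∀ z : GL D.Idx F, (nW X.hB F w)⁻¹ * (nW X.hB F w * z * (nW X.hB F w)⁻¹) *
          nW X.hB F w = z := by intro z; group
      rwa [e1, e1] at this
    exact Subtype.ext (xP_inj' T hJ hΦ h3)
  obtain ⟨a, hae⟩ := (Finite.injective_iff_surjective.1 hinj) ⟨a', ha'⟩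
  refine ⟨a.1, a.2, ?_⟩
  have h1 := hκ a.1 a.2
  have e : κ a.1 a.2 = a' := congrArg Subtype.val hae
  rw [e] at h1
  rw [← h1]; group

end main

end Cfsg.Agent.Helper2.TwAut
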