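import Mathlib
import Cfsg.Agent.Helper2.TwAut.WData
import Cfsg.Agent.Helper11.TwBNMain

/-!
# Table facts for `³D₄` and `²E₆`
-/

set_option autoImplicit false

namespace Cfsg.Agent.Helper2.TwAut

open Cfsg.Lie Cfsg.Agent.Helper6 Cfsg.Agent.Helper2.Aut Cfsg.Agent.Helper11.TwMain

/-- a word for the longest element, as a list of orbits -/
def wL_D4 : List (List ℕ) := [[1], [0, 2, 3], [1], [0, 2, 3], [1], [0, 2, 3]]

/-- a word for the longest element, as a list of orbits -/
def wL_E6 : List (List ℕ) :=
  [[1], [3], [0, 5], [2, 4], [1], [3], [0, 5], [2, 4], [1], [3], [0, 5], [2, 4],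
   [1], [3], [0, 5], [2, 4], [1], [3], [0, 5], [2, 4], [1], [3], [0, 5], [2, 4]]

theorem wL_D4_mem : ∀ J ∈ wL_D4, J ∈ orbs_D4 := by decide

theorem wL_E6_mem : ∀ J ∈ wL_E6, J ∈ orbs_E6 := by decide

set_option maxRecDepth 100000 in
theorem wChk_D4 : wChk chevD4 wL_D4.flatten = true := by decide +kernel

set_option maxRecDepth 100000 in
theorem wChk_E6 : wChk chevE6 wL_E6.flatten = true := by decide +kernel

/-- the positivity check for the opposition -/
def posChk (D : ChevalleyDatum) (orbs : List (List ℕ)) (w : List ℕ) : Bool :=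
  orbs.all fun J => J.all fun i => Nat.ble (D.nroots / 2) (wFoldD D (J ++ w) (D.simple i))

set_option maxRecDepth 100000 in
theorem posChk_D4 : posChk chevD4 orbs_D4 wL_D4.flatten = true := by decide +kernel

set_option maxRecDepth 100000 in
theorem posChk_E6 : posChk chevE6 orbs_E6 wL_E6.flatten = true := by decide +kernel

end Cfsg.Agent.Helper2.TwAut
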