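import Mathlib

/-!
# A subgroup of the right order is a Sylow subgroup
-/

set_option autoImplicit false

namespace Cfsg.Agent.Helper2.TwAut

theorem exists_sylow_of_card {G : Type*} [Group G] [Finite G] (p : ℕ) [Fact p.Prime]
    (H : Subgroup G) {k m : ℕ} (hH : Nat.card H = p ^ k) (hG : Nat.card G = p ^ k * m)
    (hm : ¬ p ∣ m) : ∃ P : Sylow p G, (P : Subgroup G) = H := by
  have hp : p.Prime := Fact.out
  have hm0 : m ≠ 0 := by
    rintro rfl
    exact hm (dvd_zero p)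
  have hfac : (Nat.card G).factorization p = k := by
    rw [hG, Nat.factorization_mul (pow_ne_zero _ hp.ne_zero) hm0, Finsupp.add_apply,
      hp.factorization_pow, Finsupp.single_eq_same, Nat.factorization_eq_zero_of_not_dvd hm,
      add_zero]
  refine ⟨Sylow.ofCard H (by rw [hH, hfac]), ?_⟩
  exact Sylow.coe_ofCard H _

theorem not_dvd_pow_sub_one {p q k : ℕ} (hp : p.Prime) (hpq : p ∣ q) (hq0 : 0 < q)
    (hk : 0 < k) : ¬ p ∣ q ^ k - 1 := by
  intro h
  have h1 : p ∣ q ^ k := dvd_pow hpq hk.ne'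
  have h2 : 1 ≤ q ^ k := Nat.one_le_pow _ _ hq0
  have h3 : p ∣ q ^ k - (q ^ k - 1) := Nat.dvd_sub h1 h
  have h4 : q ^ k - (q ^ k - 1) = 1 := by omega
  rw [h4] at h3
  exact hp.one_lt.ne' (Nat.dvd_one.1 h3)

theorem not_dvd_pow_add_one {p q k : ℕ} (hp : p.Prime) (hpq : p ∣ q) (hk : 0 < k) :
    ¬ p ∣ q ^ k + 1 := by
  intro h
  have h1 : p ∣ q ^ k := dvd_pow hpq hk.ne'
  have h3 : p ∣ 1 := (Nat.dvd_add_right h1).1 h
  exact hp.one_lt.ne' (Nat.dvd_one.1 h3)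

end Cfsg.Agent.Helper2.TwAut
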