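import Mathlib
import Cfsg.Agent.Helper2.TwAut.D4Tab
import Cfsg.Agent.Helper2.TwAut.SylowU
import Cfsg.Agent.Helper11.TwTorMain
import Cfsg.Agent.S1067
import Cfsg.Agent.S1088

/-!
# The outer automorphism group of `³D₄(q)`
-/

set_option autoImplicit false
set_option linter.unusedSectionVars false
set_option linter.unusedSimpArgs false
set_option linter.unusedVariables false

namespace Cfsg.Agent.Helper2.TwAut

open Cfsg.Lie Cfsg.Agent.Helper6 Cfsg.Agent.Helper2.Aut Cfsg.Agent.Helper2.BN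
open Cfsg.Agent.Helper11.TwCtx Cfsg.Agent.Helper11.TwReach Cfsg.Agent.Helper11.TwBNA
  Cfsg.Agent.Helper11.TwBNB Cfsg.Agent.Helper11.TwBNC Cfsg.Agent.Helper11.TwBND
  Cfsg.Agent.Helper11.TwTorA Cfsg.Agent.Helper11.TwFix Cfsg.Agent.Helper11.TwMain
  Cfsg.Agent.Helper11.TwBNMain Cfsg.Agent.Helper11.TwTorMain

variable {D : ChevalleyDatum} {F : Type*} [Field F]

theorem hpos_of_chk {X : Ctx D F} {G1 : Subgroup (GL D.Idx F)} {orbs : List (List ℕ)}
    (T : TwData X G1 orbs) {w : List ℕ} (hw : ∀ i ∈ w, i < D.rank)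
    (h : posChk D orbs w = true) :
    ∀ J ∈ orbs, ∀ i ∈ J, D.nroots / 2 ≤ wFold D (J ++ w) (D.simple i) := by
  simp only [posChk, List.all_eq_true, Nat.ble_eq] at h
  intro J hJ i hi
  have hO := T.horb J hJ
  have hJw : ∀ k ∈ J ++ w, k < D.rank := by
    intro k hk
    rcases List.mem_append.1 hk with hk | hk
    · exact hO.lt k hk
    · exact hw k hk
  rw [← wFoldD_eq X.hB X.hF T.bn.hn X.hAll hJw (X.hAll i (hO.lt i hi)).hS.1]
  exact h J hJ i hi

section D4

variable {K : Type*} [Field K] {q : ℕ} (f : K ≃+* K) (hfq : ∀ x, f x = x ^ q)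
  (hf : ∀ x, f (f (f x)) = x)

theorem edge_D4 : EdgeOK (ctxD4 f hf) [1] [0, 2, 3] := by
  refine ⟨by simp, ?_⟩
  intro s hs hA j hj
  have hfs : f s = s := hA rfl
  have c0 : chevD4.cartan 1 (chevD4.simple 0) = -1 := by decide
  have c2 : chevD4.cartan 1 (chevD4.simple 2) = -1 := by decide
  have c3 : chevD4.cartan 1 (chevD4.simple 3) = -1 := by decide
  have n20 : chevD4.simple 2 ≠ chevD4.simple 0 := by decide
  have n30 : chevD4.simple 3 ≠ chevD4.simple 0 := by decide
  have n32 : chevD4.simple 3 ≠ chevD4.simple 2 := by decide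
  have e : -(-s⁻¹)⁻¹ = s := by rw [inv_neg, inv_inv, neg_neg]
  have hX : (ctxD4 f hf).f = f := rfl
  simp only [List.mem_cons, List.not_mem_nil, or_false] at hj
  rcases hj with rfl | rfl | rfl
  · simp only [List.map_cons, List.map_nil, List.prod_cons, List.prod_nil, mul_one, orbFun, c0, e,
      hX, if_true, zpow_neg_one]
  · simp only [List.map_cons, List.map_nil, List.prod_cons, List.prod_nil, mul_one, orbFun, c2, e,
      hX, if_true, zpow_neg_one, if_neg n20, map_inv₀, hfs]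
  · simp only [List.map_cons, List.map_nil, List.prod_cons, List.prod_nil, mul_one, orbFun, c3, e,
      hX, if_true, zpow_neg_one, if_neg n30, if_neg n32, map_inv₀, hfs]

theorem rig_D4 [Finite K] (hne : ∃ x, f x ≠ x) :
    Rig (twData_D4 f hfq hf) (nW (ctxD4 f hf).hB K wL_D4.flatten) [0, 2, 3] := by
  have T := twData_D4 f hfq hf
  have W := wData_of_chk T.bn wChk_D4
  have hn0 := n0_of_wData T W (nW_flatten_mem T wL_D4 wL_D4_mem)
  refine ⟨hne, hn0, opp_of_word T W.hL hn0 (hpos_of_chk T W.hL posChk_D4), by decide, by decide,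
    ?_, by decide, by decide, ?_, ?_⟩
  · intro π hm hl _ J hJ
    have hJ' := hJ
    simp only [orbs_D4, List.mem_cons, List.not_mem_nil, or_false] at hJ'
    have hmJ := hm J hJ
    simp only [orbs_D4, List.mem_cons, List.not_mem_nil, or_false] at hmJ
    have hlJ := hl J hJ
    rcases hJ' with rfl | rfl
    · rcases hmJ with e | e
      · exact e
      · rw [e] at hlJ; simp at hlJ
    · rcases hmJ with e | e
      · rw [e] at hlJ; simp at hlJ
      · exact e
  · intro R h0 hstep J hJ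
    have hJ' := hJ
    simp only [orbs_D4, List.mem_cons, List.not_mem_nil, or_false] at hJ'
    rcases hJ' with rfl | rfl
    · exact hstep [1] (by decide) [0, 2, 3] (by decide) (edge_D4 f hf) h0
    · exact h0
  · intro τ x
    show τ (f x) = f (τ x)
    rw [hfq, hfq, map_pow]

end D4

theorem frob_ne_id {K : Type*} [Field K] [Fintype K] {q n : ℕ} (hq : 1 < q) (hn : 1 < n)
    (hK : Fintype.card K = q ^ n) (f : K ≃+* K) (hfq : ∀ x, f x = x ^ q) : ∃ x, f x ≠ x := by
  by_contra h0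
  have h : ∀ x, f x = x := fun x => by_contra fun hx => h0 ⟨x, hx⟩
  have h1 := Cfsg.Agent.Helper11.TwField.card_fixed_pow hq (by omega) hK
  have h2 : Nat.card {x : K // x ^ q = x} = Fintype.card K := by
    rw [← Nat.card_eq_fintype_card]
    exact Nat.card_congr (Equiv.subtypeUnivEquiv (fun x => by rw [← hfq]; exact h x))
  rw [h1, hK] at h2
  have : q ^ 1 < q ^ n := Nat.pow_lt_pow_right hq hn
  rw [pow_one] at this
  omega

theorem card_U1 {G1 : Subgroup (GL D.Idx F)} :
    Nat.card ↥(U1 D F G1) = Nat.card ↥(D.posUnipotent F ⊓ G1) :=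
  Nat.card_congr (Subgroup.subgroupOfEquivOfLe
    (inf_le_right : D.posUnipotent F ⊓ G1 ≤ G1)).toEquiv

/-- `|Out(³D₄(q))| = 3f` -/
theorem card_out_D4 {K : Type*} [Field K] [Fintype K] (p f : ℕ) [Fact p.Prime] [CharP K p]
    (hK : Fintype.card K = p ^ (3 * f)) (hf : 1 ≤ f) :
    Nat.card (Cfsg.Out ↥(Cfsg.Lie.twistedD4 K (p ^ f))) = 3 * f := by
  have hp : p.Prime := Fact.out
  obtain ⟨q, hqe⟩ : ∃ q, q = p ^ f := ⟨_, rfl⟩
  rw [← hqe]
  have hq : IsPrimePow q := ⟨p, f, hp.prime, by omega, hqe.symm⟩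
  have hq1 : 1 < q := hq.one_lt
  have hK' : Fintype.card K = q ^ 3 := by rw [hK, hqe, ← pow_mul, mul_comm]
  obtain ⟨fr, hfq⟩ := Cfsg.Agent.Helper11.TwField.exists_frob hq (by norm_num) hK'
  have hf3 : ∀ x, fr (fr (fr x)) = x := fun x =>
    Cfsg.Agent.Helper11.TwField.frob_iterate hK' fr hfq x
  have hne := frob_ne_id hq1 (by norm_num) hK' fr hfq
  have R := rig_D4 fr hfq hf3 hne
  have T := twData_D4 fr hfq hf3
  have hpq : p ∣ q := by rw [hqe]; exact dvd_pow_self p (by omega)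
  have hSyl : ∃ P : Sylow p ↥(twistedD4 K q),
      (P : Subgroup ↥(twistedD4 K q)) = U1 chevD4 K (twistedD4 K q) := by
    have hG := Cfsg.Agent.S1067.result hq hK'
    have hU := Cfsg.Agent.S1088.result hq hK'
    refine exists_sylow_of_card p _ (k := f * 12)
      (m := (q ^ 2 - 1) * (q ^ 6 - 1) * (q ^ 8 + q ^ 4 + 1)) ?_ ?_ ?_
    · rw [card_U1, hU, hqe, ← pow_mul]
    · rw [hG, pow_mul, ← hqe]; ring
    · intro h
      rcases (Nat.Prime.dvd_mul hp).1 h with h | h
      · rcases (Nat.Prime.dvd_mul hp).1 h with h | h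
        · exact not_dvd_pow_sub_one hp hpq (by omega) (by norm_num) h
        · exact not_dvd_pow_sub_one hp hpq (by omega) (by norm_num) h
      · have h1 : p ∣ q ^ 8 + q ^ 4 := Dvd.dvd.add (dvd_pow hpq (by norm_num))
          (dvd_pow hpq (by norm_num))
        have h3 : p ∣ 1 := (Nat.dvd_add_right h1).1 h
        exact hp.one_lt.ne' (Nat.dvd_one.1 h3)
  have hH := diagonal_inf_D4 fr hf3 hfq
  have h1 := card_out_mul R p hSyl hH
  have h2 := card_ker_mul_card_H0 (ctxD4 fr hf3) T.bn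
  rw [card_ker_D4 fr hf3, one_mul] at h2
  have h3 : Nat.card ↥(T0 (ctxD4 fr hf3)) = Nat.card ↥(H0 (ctxD4 fr hf3)) := h2.symm
  rw [h3, card_ringAut p (3 * f) hK] at h1
  exact Nat.eq_of_mul_eq_mul_left Nat.card_pos h1

end Cfsg.Agent.Helper2.TwAut
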