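import Mathlib
import Cfsg.Agent.Helper2.TwAut.D4
import Cfsg.Agent.S1066
import Cfsg.Agent.S1086

/-!
# The outer automorphism group of `²E₆(q)`
-/

set_option autoImplicit false
set_option linter.unusedSectionVars false
set_option linter.unusedSimpArgs false
set_option linter.unusedVariables false

namespace Cfsg.Agent.Helper2.TwAut

open Cfsg.Lie Cfsg.Agent.Helper6 Cfsg.Agent.Helper2.Aut Cfsg.Agent.Helper2.BN
open Cfsg.Agent.Helper11.TwCtx Cfsg.Agent.Helper11.TwReach Cfsg.Agent.Helper11.TwBNA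
  Cfsg.Agent.Helper11.TwBNB Cfsg.Agent.Helper11.TwBNC Cfsg.Agent.Helper11.TwBND
  Cfsg.Agent.Helper11.TwTorA Cfsg.Agent.Helper11.TwFix Cfsg.Agent.Helper11.TwMain
  Cfsg.Agent.Helper11.TwBNMain Cfsg.Agent.Helper11.TwTorMain

section tables

set_option maxRecDepth 100000 in
theorem ord_E6_ac : fixPos chevE6 (([1] ++ [2, 4]) ++ ([1] ++ [2, 4])) = true := by decide +kernel
set_option maxRecDepth 100000 in
theorem ord_E6_ad : fixPos chevE6 (([1] ++ [0, 5]) ++ ([1] ++ [0, 5])) = true := by decide +kernel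
set_option maxRecDepth 100000 in
theorem ord_E6_bd : fixPos chevE6 (([3] ++ [0, 5]) ++ ([3] ++ [0, 5])) = true := by decide +kernel
set_option maxRecDepth 100000 in
theorem ord_E6_bc : fixPos chevE6 (([3] ++ [2, 4]) ++ ([3] ++ [2, 4])) = false := by decide +kernel
set_option maxRecDepth 100000 in
theorem ord_E6_ab : fixPos chevE6 (([1] ++ [3]) ++ ([1] ++ [3])) = false := by decide +kernel
set_option maxRecDepth 100000 in
theorem ord_E6_bb : fixPos chevE6 (([3] ++ [3]) ++ ([3] ++ [3])) = true := by decide +kernel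
set_option maxRecDepth 100000 in
theorem ord_E6_cc : fixPos chevE6 (([2, 4] ++ [2, 4]) ++ ([2, 4] ++ [2, 4])) = true := by
  decide +kernel
set_option maxRecDepth 100000 in
theorem ord_E6_cd : fixPos chevE6 (([2, 4] ++ [0, 5]) ++ ([2, 4] ++ [0, 5])) = false := by
  decide +kernel

end tables

section E6

variable {K : Type*} [Field K] {q : ℕ} (f : K ≃+* K) (hfq : ∀ x, f x = x ^ q)
  (hf : ∀ x, f (f x) = x)

theorem edge_E6_ab : EdgeOK (ctxE6 f hf) [1] [3] := by
  refine ⟨by simp, ?_⟩
  intro s hs hA j hj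
  have c : chevE6.cartan 1 (chevE6.simple 3) = -1 := by decide
  have e : -(-s⁻¹)⁻¹ = s := by rw [inv_neg, inv_inv, neg_neg]
  simp only [List.mem_cons, List.not_mem_nil, or_false] at hj
  subst hj
  simp only [List.map_cons, List.map_nil, List.prod_cons, List.prod_nil, mul_one, orbFun, c, e,
    zpow_neg_one]

theorem edge_E6_bc : EdgeOK (ctxE6 f hf) [3] [2, 4] := by
  refine ⟨by simp, ?_⟩
  intro s hs hA j hj
  have hfs : f s = s := hA rfl
  have c2 : chevE6.cartan 3 (chevE6.simple 2) = -1 := by decide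
  have c4 : chevE6.cartan 3 (chevE6.simple 4) = -1 := by decide
  have n42 : chevE6.simple 4 ≠ chevE6.simple 2 := by decide
  have e : -(-s⁻¹)⁻¹ = s := by rw [inv_neg, inv_inv, neg_neg]
  have hX : (ctxE6 f hf).f = f := rfl
  simp only [List.mem_cons, List.not_mem_nil, or_false] at hj
  rcases hj with rfl | rfl
  · simp only [List.map_cons, List.map_nil, List.prod_cons, List.prod_nil, mul_one, orbFun, c2, e,
      hX, if_true, zpow_neg_one]
  · simp only [List.map_cons, List.map_nil, List.prod_cons, List.prod_nil, mul_one, orbFun, c4, e,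
      hX, if_true, zpow_neg_one, if_neg n42, map_inv₀, hfs]

theorem edge_E6_cd : EdgeOK (ctxE6 f hf) [2, 4] [0, 5] := by
  refine ⟨by simp, ?_⟩
  intro s hs hA j hj
  have c20 : chevE6.cartan 2 (chevE6.simple 0) = -1 := by decide
  have c40 : chevE6.cartan 4 (chevE6.simple 0) = 0 := by decide
  have c25 : chevE6.cartan 2 (chevE6.simple 5) = 0 := by decide
  have c45 : chevE6.cartan 4 (chevE6.simple 5) = -1 := by decide
  have n42 : chevE6.simple 4 ≠ chevE6.simple 2 := by decide
  have n50 : chevE6.simple 5 ≠ chevE6.simple 0 := by decide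
  have e : -(-s⁻¹)⁻¹ = s := by rw [inv_neg, inv_inv, neg_neg]
  have e' : -(f (-s⁻¹))⁻¹ = f s := by rw [map_neg, map_inv₀, inv_neg, inv_inv, neg_neg]
  have hX : (ctxE6 f hf).f = f := rfl
  simp only [List.mem_cons, List.not_mem_nil, or_false] at hj
  rcases hj with rfl | rfl
  · simp only [List.map_cons, List.map_nil, List.prod_cons, List.prod_nil, mul_one, orbFun, c20,
      c40, e, e', hX, if_true, zpow_neg_one, if_neg n42, zpow_zero]
  · simp only [List.map_cons, List.map_nil, List.prod_cons, List.prod_nil, mul_one, orbFun, c25,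
      c45, e, e', hX, if_true, zpow_neg_one, if_neg n42, if_neg n50, zpow_zero, one_mul, map_inv₀]

theorem rig_E6 [Finite K] (hne : ∃ x, f x ≠ x) :
    Rig (twData_E6 f hfq hf) (nW (ctxE6 f hf).hB K wL_E6.flatten) [0, 5] := by
  have T := twData_E6 f hfq hf
  have W := wData_of_chk T.bn wChk_E6
  have hn0 := n0_of_wData T W (nW_flatten_mem T wL_E6 wL_E6_mem)
  refine ⟨hne, hn0, opp_of_word T W.hL hn0 (hpos_of_chk T W.hL posChk_E6), by decide, by decide,
    ?_, by decide, by decide, ?_, ?_⟩
  · intro π hm hl ho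
    have ma : [1] ∈ orbs_E6 := by decide
    have mb : [3] ∈ orbs_E6 := by decide
    have mc : [2, 4] ∈ orbs_E6 := by decide
    have md : [0, 5] ∈ orbs_E6 := by decide
    have ha := hm _ ma
    have hb := hm _ mb
    have hc := hm _ mc
    have hd := hm _ md
    have la := hl _ ma
    have lb := hl _ mb
    have lc := hl _ mc
    have ld := hl _ md
    simp only [orbs_E6, List.mem_cons, List.not_mem_nil, or_false] at ha hb hc hd
    -- `π b = b` and `π c = c`
    have hbc := ho _ mb _ mc
    have eb : π [3] = [3] ∧ π [2, 4] = [2, 4] := by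
      rcases hb with e | e | e | e
      · rcases hc with e' | e' | e' | e'
        · rw [e'] at lc; simp at lc
        · rw [e'] at lc; simp at lc
        · rw [e, e', ord_E6_ad, ord_E6_bc] at hbc; exact absurd hbc (by decide)
        · rw [e, e', ord_E6_ac, ord_E6_bc] at hbc; exact absurd hbc (by decide)
      · rcases hc with e' | e' | e' | e'
        · rw [e'] at lc; simp at lc
        · rw [e'] at lc; simp at lc
        · rw [e, e', ord_E6_bd, ord_E6_bc] at hbc; exact absurd hbc (by decide)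
        · exact ⟨e, e'⟩
      · rw [e] at lb; simp at lb
      · rw [e] at lb; simp at lb
    obtain ⟨eb, ec⟩ := eb
    have hab := ho _ ma _ mb
    have ea : π [1] = [1] := by
      rcases ha with e | e | e | e
      · exact e
      · rw [e, eb, ord_E6_bb, ord_E6_ab] at hab; exact absurd hab (by decide)
      · rw [e] at la; simp at la
      · rw [e] at la; simp at la
    have hcd := ho _ mc _ md
    have ed : π [0, 5] = [0, 5] := by
      rcases hd with e | e | e | e
      · rw [e] at ld; simp at ld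
      · rw [e] at ld; simp at ld
      · exact e
      · rw [e, ec, ord_E6_cc, ord_E6_cd] at hcd; exact absurd hcd (by decide)
    intro J hJ
    simp only [orbs_E6, List.mem_cons, List.not_mem_nil, or_false] at hJ
    rcases hJ with rfl | rfl | rfl | rfl
    · exact ea
    · exact eb
    · exact ed
    · exact ec
  · intro R h0 hstep
    have ma : [1] ∈ orbs_E6 := by decide
    have mb : [3] ∈ orbs_E6 := by decide
    have mc : [2, 4] ∈ orbs_E6 := by decide
    have md : [0, 5] ∈ orbs_E6 := by decide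
    have rc := hstep _ mc _ md (edge_E6_cd f hf) h0
    have rb := hstep _ mb _ mc (edge_E6_bc f hf) rc
    have ra := hstep _ ma _ mb (edge_E6_ab f hf) rb
    intro J hJ
    simp only [orbs_E6, List.mem_cons, List.not_mem_nil, or_false] at hJ
    rcases hJ with rfl | rfl | rfl | rfl
    · exact ra
    · exact rb
    · exact h0
    · exact rc
  · intro τ x
    show τ (f x) = f (τ x)
    rw [hfq, hfq, map_pow]

end E6

/-- `|Out(²E₆(q))| = 2 · gcd(3, q + 1) · f` -/
theorem card_out_E6 {K : Type*} [Field K] [Fintype K] (p f : ℕ) [Fact p.Prime] [CharP K p]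
    (hK : Fintype.card K = p ^ (2 * f)) (hf : 1 ≤ f) :
    Nat.card (Cfsg.Out ↥(Cfsg.Lie.twistedE6 K (p ^ f))) = 2 * Nat.gcd 3 (p ^ f + 1) * f := by
  have hp : p.Prime := Fact.out
  obtain ⟨q, hqe⟩ : ∃ q, q = p ^ f := ⟨_, rfl⟩
  rw [← hqe]
  have hq : IsPrimePow q := ⟨p, f, hp.prime, by omega, hqe.symm⟩
  have hq1 : 1 < q := hq.one_lt
  have hK' : Fintype.card K = q ^ 2 := by rw [hK, hqe, ← pow_mul, mul_comm]
  obtain ⟨fr, hfq⟩ := Cfsg.Agent.Helper11.TwField.exists_frob hq (by norm_num) hK'
  have hf2 : ∀ x, fr (fr x) = x := fun x =>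
    Cfsg.Agent.Helper11.TwField.frob_iterate hK' fr hfq x
  have hne := frob_ne_id hq1 (by norm_num) hK' fr hfq
  have R := rig_E6 fr hfq hf2 hne
  have T := twData_E6 fr hfq hf2
  have hpq : p ∣ q := by rw [hqe]; exact dvd_pow_self p (by omega)
  have hq0 : 0 < q := by omega
  have hSyl : ∃ P : Sylow p ↥(twistedE6 K q),
      (P : Subgroup ↥(twistedE6 K q)) = U1 chevE6 K (twistedE6 K q) := by
    have hG := Cfsg.Agent.S1066.result hq hK'
    have hU := Cfsg.Agent.S1086.result hq hK'
    obtain ⟨M, hM⟩ : ∃ M, M = (q ^ 2 - 1) * (q ^ 5 + 1) * (q ^ 6 - 1) * (q ^ 8 - 1) * (q ^ 9 + 1) *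
      (q ^ 12 - 1) := ⟨_, rfl⟩
    have hG' : Nat.gcd 3 (q + 1) * Nat.card ↥(twistedE6 K q) = q ^ 36 * M := by
      rw [hG, hM]; ring
    have hgpos : 0 < Nat.gcd 3 (q + 1) := Nat.gcd_pos_of_pos_left _ (by norm_num)
    have hcop : Nat.Coprime (Nat.gcd 3 (q + 1)) (q ^ 36) := by
      apply Nat.Coprime.pow_right
      apply Nat.Coprime.coprime_dvd_left (Nat.gcd_dvd_right 3 (q + 1))
      simp
    have hgM : Nat.gcd 3 (q + 1) ∣ M :=
      hcop.dvd_of_dvd_mul_left (Dvd.intro _ hG')
    obtain ⟨m, hm⟩ := hgM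
    have hGm : Nat.card ↥(twistedE6 K q) = q ^ 36 * m := by
      apply Nat.eq_of_mul_eq_mul_left hgpos
      rw [hG', hm]; ring
    have hpM : ¬ p ∣ M := by
      rw [hM]
      intro h
      rcases (Nat.Prime.dvd_mul hp).1 h with h | h
      · rcases (Nat.Prime.dvd_mul hp).1 h with h | h
        · rcases (Nat.Prime.dvd_mul hp).1 h with h | h
          · rcases (Nat.Prime.dvd_mul hp).1 h with h | h
            · rcases (Nat.Prime.dvd_mul hp).1 h with h | h
              · exact not_dvd_pow_sub_one hp hpq hq0 (by norm_num) h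
              · exact not_dvd_pow_add_one hp hpq (by norm_num) h
            · exact not_dvd_pow_sub_one hp hpq hq0 (by norm_num) h
          · exact not_dvd_pow_sub_one hp hpq hq0 (by norm_num) h
        · exact not_dvd_pow_add_one hp hpq (by norm_num) h
      · exact not_dvd_pow_sub_one hp hpq hq0 (by norm_num) h
    refine exists_sylow_of_card p _ (k := f * 36) (m := m) ?_ ?_ ?_
    · rw [card_U1, hU, hqe, ← pow_mul]
    · rw [hGm, pow_mul, ← hqe]
    · intro h
      exact hpM (by rw [hm]; exact Dvd.dvd.mul_left h _)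
  have hH := diagonal_inf_E6 fr hf2 hfq
  have h1 := card_out_mul R p hSyl hH
  have h2 := card_ker_mul_card_H0 (ctxE6 fr hf2) T.bn
  rw [card_ker_E6 fr hf2 hq1 hK' hfq] at h2
  have h3 : Nat.card ↥(T0 (ctxE6 fr hf2)) =
      Nat.gcd 3 (q + 1) * Nat.card ↥(H0 (ctxE6 fr hf2)) := h2.symm
  rw [h3, card_ringAut p (2 * f) hK] at h1
  have hpos : 0 < Nat.card ↥(H0 (ctxE6 fr hf2)) := Nat.card_pos
  apply Nat.eq_of_mul_eq_mul_left hpos
  rw [h1]; ring

end Cfsg.Agent.Helper2.TwAut
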